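import Mathlib.AlgebraicGeometry.Modules.Tilde
import Mathlib.RingTheory.Coprime.Basic
import Mathlib.Tactic.LinearCombination

/-!
# Sections of quasi-coherent modules over affine opens
-/

universe u

open CategoryTheory CategoryTheory.Limits Opposite TopologicalSpace AlgebraicGeometry

namespace GrothLib.Cohom

variable {X : Scheme.{u}}

theorem map_map_apply (M : X.Modules) {U V W : X.Opens} (i : V ⟶ U) (j : W ⟶ V) (x : Γ(M, U)) :
    M.presheaf.map j.op (M.presheaf.map i.op x) =
      M.presheaf.map (homOfLE (j.le.trans i.le)).op x := by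
  rw [← ConcreteCategory.comp_apply, ← Functor.map_comp]
  rfl

theorem map_self_apply (M : X.Modules) {U : X.Opens} (i : U ⟶ U) (x : Γ(M, U)) :
    M.presheaf.map i.op x = x := by
  rw [show i.op = 𝟙 _ from rfl, CategoryTheory.Functor.map_id, ConcreteCategory.id_apply]

theorem ringMap_map_apply {U V W : X.Opens} (i : V ⟶ U) (j : W ⟶ V) (x : Γ(X, U)) :
    X.presheaf.map j.op (X.presheaf.map i.op x) =
      X.presheaf.map (homOfLE (j.le.trans i.le)).op x := by
  rw [← ConcreteCategory.comp_apply, ← Functor.map_comp]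
  rfl

theorem appIso_inv_fromSpec {U : X.Opens} (hU : IsAffineOpen U) (g : Γ(X, U))
    (V : (Spec Γ(X, U)).Opens) (h : hU.fromSpec ''ᵁ V ≤ U) :
    (hU.fromSpec.appIso V).inv
        ((Spec Γ(X, U)).presheaf.map V.leTop.op ((Scheme.ΓSpecIso Γ(X, U)).inv g)) =
      X.presheaf.map (homOfLE h).op g := by
  apply (ConcreteCategory.bijective_of_isIso (hU.fromSpec.appIso V).hom).1
  rw [Iso.inv_hom_id_apply, Scheme.Hom.appIso_hom', ← CommRingCat.comp_apply,
    ← CommRingCat.comp_apply, Scheme.Hom.map_appLE, Scheme.Hom.appLE, hU.fromSpec_app_self,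
    Category.assoc, ← Functor.map_comp]
  rfl

/-- Sections on a basic open of an affine open extend, after multiplication by a power. -/
theorem exists_pow_smul_eq_map {U : X.Opens} (hU : IsAffineOpen U) (M : X.Modules)
    [M.IsQuasicoherent] (g : Γ(X, U)) (s : Γ(M, X.basicOpen g)) :
    ∃ (n : ℕ) (t : Γ(M, U)), M.presheaf.map (homOfLE (X.basicOpen_le g)).op t =
      (X.presheaf.map (homOfLE (X.basicOpen_le g)).op g) ^ n • s := by
  let M' : (Spec Γ(X, U)).Modules := M.restrict hU.fromSpec
  have : IsIso M'.fromTildeΓ := inferInstance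
  have hloc := (isIso_fromTildeΓ_iff_isLocalizing M').1 this g
  have eb : hU.fromSpec ''ᵁ PrimeSpectrum.basicOpen g = X.basicOpen g := hU.fromSpec_image_basicOpen g
  have et : hU.fromSpec ''ᵁ ⊤ = U := by
    rw [Scheme.Hom.image_top_eq_opensRange, hU.opensRange_fromSpec]
  let s' : Γ(M', PrimeSpectrum.basicOpen g) :=
    (M.restrictAppIso hU.fromSpec _).inv (M.presheaf.map (eqToHom eb).op s)
  obtain ⟨⟨t, ⟨_, n, rfl⟩⟩, ht⟩ := hloc.surj s'
  replace ht : g ^ n • s' =
      M'.presheaf.map (PrimeSpectrum.basicOpen g).leTop.op (show Γ(M', ⊤) from t) := ht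
  refine ⟨n, M.presheaf.map (eqToHom et.symm).op ((M.restrictAppIso hU.fromSpec ⊤).hom t), ?_⟩
  have hl : hU.fromSpec ''ᵁ PrimeSpectrum.basicOpen g ≤ U := eb.le.trans (X.basicOpen_le g)
  have hn : (M.restrictAppIso hU.fromSpec (PrimeSpectrum.basicOpen g)).hom (g ^ n • s') =
      X.presheaf.map (homOfLE hl).op (g ^ n) • M.presheaf.map (eqToHom eb).op s := by
    rw [Scheme.Modules.smul_Spec_def, Scheme.Modules.smul_restrictAppIso_hom_apply,
      appIso_inv_fromSpec hU _ _ hl]
    simp [s']
  have key := hn.symm.trans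
    (congrArg (M.restrictAppIso hU.fromSpec (PrimeSpectrum.basicOpen g)).hom ht)
  have h2 := congrArg (M.presheaf.map (eqToHom eb.symm).op) key
  rw [Scheme.Modules.map_smul, ringMap_map_apply, map_pow, map_map_apply, map_self_apply] at h2
  refine Eq.trans ?_ h2.symm
  change _ = M.presheaf.map (eqToHom eb.symm).op
    (M.presheaf.map (homOfLE (Scheme.Hom.image_mono hU.fromSpec le_top)).op
      ((M.restrictAppIso hU.fromSpec ⊤).hom t))
  rw [map_map_apply, map_map_apply]

/-- The two-cover Čech `H¹` of a quasi-coherent module on an affine open vanishes. -/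
theorem exists_map_sub_map_eq {U : X.Opens} (hU : IsAffineOpen U) (M : X.Modules)
    [M.IsQuasicoherent] (a b : Γ(X, U))
    (hab : X.basicOpen a ⊔ X.basicOpen b = U)
    (y : Γ(M, X.basicOpen a ⊓ X.basicOpen b)) :
    ∃ u v, M.presheaf.map (homOfLE (inf_le_left : _ ≤ X.basicOpen a)).op u -
      M.presheaf.map (homOfLE (inf_le_right : _ ≤ X.basicOpen b)).op v = y := by
  have eab : X.basicOpen (a * b) = X.basicOpen a ⊓ X.basicOpen b := X.basicOpen_mul a b
  obtain ⟨N, t, ht⟩ := exists_pow_smul_eq_map hU M (a * b) (M.presheaf.map (eqToHom eab).op y)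
  have hcop : IsCoprime a b := by
    suffices h : Ideal.span ({a, b} : Set Γ(X, U)) = ⊤ from
      Ideal.mem_span_pair.1 (h ▸ Submodule.mem_top : (1 : Γ(X, U)) ∈ Ideal.span {a, b})
    refine (hU.iSup_basicOpen_eq_self_iff).1 (le_antisymm (iSup_le fun i ↦ X.basicOpen_le _) ?_)
    refine hab.ge.trans (sup_le ?_ ?_)
    · exact le_iSup (fun i : ({a, b} : Set Γ(X, U)) ↦ X.basicOpen i.1) ⟨a, by simp⟩
    · exact le_iSup (fun i : ({a, b} : Set Γ(X, U)) ↦ X.basicOpen i.1) ⟨b, by simp⟩
  obtain ⟨c, d, hcd⟩ := (hcop.pow : IsCoprime (a ^ N) (b ^ N))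
  have la : X.basicOpen a ≤ U := X.basicOpen_le a
  have lb : X.basicOpen b ≤ U := X.basicOpen_le b
  have hau : IsUnit (X.presheaf.map (homOfLE la).op a) :=
    RingedSpace.isUnit_res_basicOpen X.toRingedSpace a
  have hbu : IsUnit (X.presheaf.map (homOfLE lb).op b) :=
    RingedSpace.isUnit_res_basicOpen X.toRingedSpace b
  obtain ⟨ua, hua⟩ := (hau.pow N).exists_left_inv
  obtain ⟨ub, hub⟩ := (hbu.pow N).exists_left_inv
  refine ⟨(ua * X.presheaf.map (homOfLE la).op d) • M.presheaf.map (homOfLE la).op t,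
    -((ub * X.presheaf.map (homOfLE lb).op c) • M.presheaf.map (homOfLE lb).op t), ?_⟩
  have hr : X.basicOpen a ⊓ X.basicOpen b ≤ U := inf_le_left.trans la
  have ht' : M.presheaf.map (homOfLE hr).op t =
      X.presheaf.map (homOfLE hr).op (a * b) ^ N • y := by
    have h1 := congrArg (M.presheaf.map (eqToHom eab.symm).op) ht
    rw [map_map_apply, Scheme.Modules.map_smul, map_map_apply, map_self_apply, map_pow,
      ringMap_map_apply] at h1
    exact h1
  have hua' : X.presheaf.map (homOfLE (inf_le_left : X.basicOpen a ⊓ X.basicOpen b ≤ _)).op ua *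
      X.presheaf.map (homOfLE hr).op a ^ N = 1 := by
    have h1 := congrArg (X.presheaf.map (homOfLE
      (inf_le_left : X.basicOpen a ⊓ X.basicOpen b ≤ _)).op) hua
    rw [map_mul, map_pow, map_one, ringMap_map_apply] at h1
    exact h1
  have hub' : X.presheaf.map (homOfLE (inf_le_right : X.basicOpen a ⊓ X.basicOpen b ≤ _)).op ub *
      X.presheaf.map (homOfLE hr).op b ^ N = 1 := by
    have h1 := congrArg (X.presheaf.map (homOfLE
      (inf_le_right : X.basicOpen a ⊓ X.basicOpen b ≤ _)).op) hub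
    rw [map_mul, map_pow, map_one, ringMap_map_apply] at h1
    exact h1
  rw [map_neg, sub_neg_eq_add, Scheme.Modules.map_smul, Scheme.Modules.map_smul, map_mul,
    map_mul]
  simp only [map_map_apply, ringMap_map_apply]
  rw [ht', ← add_smul, ← mul_smul, map_mul]
  conv_rhs => rw [← one_smul Γ(X, X.basicOpen a ⊓ X.basicOpen b) y,
    ← map_one (X.presheaf.map (homOfLE hr).op).hom, ← hcd, map_add, map_mul, map_mul, map_pow,
    map_pow]
  congr 1
  generalize X.presheaf.map (homOfLE inf_le_left).op ua = p at hua' ⊢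
  generalize X.presheaf.map (homOfLE inf_le_right).op ub = q at hub' ⊢
  generalize X.presheaf.map (homOfLE hr).op a = A at hua' ⊢
  generalize X.presheaf.map (homOfLE hr).op b = B at hub' ⊢
  linear_combination (X.presheaf.map (homOfLE hr).op d * B ^ N) * hua' +
    (X.presheaf.map (homOfLE hr).op c * A ^ N) * hub'

end GrothLib.Cohom
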