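import Mathlib.CategoryTheory.Sites.SheafCohomology.MayerVietoris
import Mathlib.Topology.Sheaves.MayerVietoris
import Mathlib.CategoryTheory.Abelian.GrothendieckCategory.HasExt
import Mathlib.CategoryTheory.Abelian.GrothendieckAxioms.Sheaf
import Mathlib.CategoryTheory.Abelian.GrothendieckCategory.EnoughInjectives
import Mathlib.Algebra.Category.Grp.AB
import Mathlib.Algebra.Category.Grp.Ulift
import Mathlib.Topology.Sheaves.LocallySurjective
import Mathlib.Topology.Sheaves.SheafCondition.Sites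
import Groth.Prelude.Def_SiteColimFix

/-!
# Cohomology of abelian sheaves on opens of a topological space

`H^n(U, F)` is `Ext^n` from the free abelian sheaf on `U` (Mathlib's `Sheaf.H'`).
The restriction formalism is proved in a general abelian category, then instantiated.
-/

universe u v w

open CategoryTheory CategoryTheory.Limits Opposite TopologicalSpace Abelian

namespace GrothLib.Cohom

section Generic

variable {C : Type w} [Category.{u} C] [Abelian C] [HasExt.{u} C]
  {P : Type v} [Category.{u} P] (Φ : P ⥤ C)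

/-- The transition map `Ext^n(Φ U, F) → Ext^n(Φ V, F)`. -/
noncomputable def extRes (F : C) (n : ℕ) {U V : P} (i : V ⟶ U) :
    Ext.{u} (Φ.obj U) F n →+ Ext.{u} (Φ.obj V) F n :=
  (Ext.mk₀ (Φ.map i)).precomp F (zero_add n)

theorem extRes_apply (F : C) (n : ℕ) {U V : P} (i : V ⟶ U) (x : Ext.{u} (Φ.obj U) F n) :
    extRes Φ F n i x = (Ext.mk₀ (Φ.map i)).comp x (zero_add n) := rfl

theorem extRes_extRes (F : C) (n : ℕ) {U V W : P} (i : V ⟶ U) (j : W ⟶ V)
    (x : Ext.{u} (Φ.obj U) F n) :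
    extRes Φ F n j (extRes Φ F n i x) = extRes Φ F n (j ≫ i) x := by
  simp [extRes_apply]

theorem extRes_id (F : C) (n : ℕ) (U : P) (x : Ext.{u} (Φ.obj U) F n) :
    extRes Φ F n (𝟙 U) x = x := by simp [extRes_apply]

theorem extRes_comp {F G : C} {a n m : ℕ} (f : Ext.{u} F G a) (hm : n + a = m) {U V : P}
    (i : V ⟶ U) (x : Ext.{u} (Φ.obj U) F n) :
    extRes Φ G m i (x.comp f hm) = (extRes Φ F n i x).comp f hm :=
  (Ext.comp_assoc _ _ _ (zero_add n) hm (by omega)).symm

theorem ext_eq_zero_of_isZero {A : C} (hA : IsZero A) (F : C) (n : ℕ) (x : Ext.{u} A F n) :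
    x = 0 := by
  rw [← Ext.mk₀_id_comp x, hA.eq_of_src (𝟙 _) 0]; simp

/-- Classes of positive degree vanish locally, for a notion of locality `L` in which
epimorphisms are locally surjective. -/
theorem exists_extRes_eq_zero [EnoughInjectives C] (L : ∀ {U V : P}, (V ⟶ U) → Prop) (U : P)
    (hepi : ∀ {G Q : C} (g : G ⟶ Q) [Epi g] (s : Ext.{u} (Φ.obj U) Q 0),
      ∃ (V : P) (i : V ⟶ U), L i ∧ ∃ t : Ext.{u} (Φ.obj V) G 0,
        t.comp (Ext.mk₀ g) (add_zero 0) = extRes Φ Q 0 i s)
    (F : C) (n : ℕ) (x : Ext.{u} (Φ.obj U) F (n + 1)) :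
    ∃ (V : P) (i : V ⟶ U), L i ∧ extRes Φ F (n + 1) i x = 0 := by
  induction n generalizing F with
  | zero =>
    let S := ShortComplex.mk (Injective.ι F) (cokernel.π (Injective.ι F)) (by simp)
    have hS : S.ShortExact := { exact := ShortComplex.exact_cokernel _ }
    obtain ⟨s, rfl⟩ := Ext.covariant_sequence_exact₁ _ hS x (Ext.eq_zero_of_injective _) rfl
    obtain ⟨V, i, hi, t, ht⟩ := hepi S.g s
    exact ⟨V, i, hi, by
      rw [extRes_comp, ← ht, Ext.comp_assoc_of_second_deg_zero, hS.comp_extClass, Ext.comp_zero]⟩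
  | succ n ih =>
    let S := ShortComplex.mk (Injective.ι F) (cokernel.π (Injective.ι F)) (by simp)
    have hS : S.ShortExact := { exact := ShortComplex.exact_cokernel _ }
    obtain ⟨s, rfl⟩ := Ext.covariant_sequence_exact₁ _ hS x (Ext.eq_zero_of_injective _) rfl
    obtain ⟨V, i, hi, hs⟩ := ih _ s
    exact ⟨V, i, hi, by rw [extRes_comp, hs, Ext.zero_comp]⟩

/-- The Mayer-Vietoris vanishing step in a general abelian category. -/
theorem eq_zero_of_extRes_eq_zero (F : C) (n : ℕ) {U V W Z : P} (iV : V ⟶ U) (iW : W ⟶ U)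
    (jV : Z ⟶ V) (jW : Z ⟶ W)
    (w : biprod.lift (Φ.map jV) (-Φ.map jW) ≫ biprod.desc (Φ.map iV) (Φ.map iW) = 0)
    (hS : (ShortComplex.mk _ _ w).ShortExact)
    (hsurj : ∀ y : Ext.{u} (Φ.obj Z) F n, ∃ a b,
      extRes Φ F n jV a - extRes Φ F n jW b = y)
    (x : Ext.{u} (Φ.obj U) F (n + 1))
    (hV : extRes Φ F (n + 1) iV x = 0) (hW : extRes Φ F (n + 1) iW x = 0) : x = 0 := by
  rw [extRes_apply] at hV hW
  obtain ⟨y, rfl⟩ := Ext.contravariant_sequence_exact₃ hS F x
    (Ext.biprodAddEquiv.injective (by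
      ext <;> simp [hV, hW])) (show 1 + n = n + 1 by omega)
  obtain ⟨a, b, rfl⟩ := hsurj y
  have : extRes Φ F n jV a - extRes Φ F n jW b =
      (Ext.mk₀ (biprod.lift (Φ.map jV) (-Φ.map jW))).comp
        (Ext.biprodAddEquiv.symm (a, b)) (zero_add n) := by
    simp [Ext.biprodAddEquiv_symm_apply, extRes_apply, sub_eq_add_neg, Ext.mk₀_neg]
  rw [this, ← Ext.comp_assoc _ _ _ (add_zero 1) (zero_add n) (by omega)]
  erw [hS.extClass_comp]
  rw [Ext.zero_comp]

/-- Precomposition with an isomorphism, on `Ext`. -/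
noncomputable def extPrecompIso {A B : C} (e : A ≅ B) (F : C) (n : ℕ) :
    Ext.{u} B F n ≃+ Ext.{u} A F n where
  toFun x := (Ext.mk₀ e.hom).comp x (zero_add n)
  invFun x := (Ext.mk₀ e.inv).comp x (zero_add n)
  left_inv x := by simp
  right_inv x := by simp
  map_add' x y := by simp

end Generic

variable {T : Type u} [TopologicalSpace T]

/-- Abelian sheaves on a space. -/
abbrev AbSheaf (T : Type u) [TopologicalSpace T] :=
  Sheaf (Opens.grothendieckTopology T) AddCommGrpCat.{u}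

instance : IsGrothendieckAbelian.{u} (AbSheaf T) :=
  Sheaf.isGrothendieckAbelian_of_essentiallySmall _ _

/-- `U ↦` the free abelian sheaf on `U`. -/
noncomputable abbrev freeFun : Opens T ⥤ AbSheaf T :=
  yoneda ⋙ (Functor.whiskeringRight _ _ _).obj AddCommGrpCat.free ⋙ presheafToSheaf _ _


/-- Morphisms from the free abelian sheaf on `U` are sections on `U`. -/
noncomputable def sectionsEquiv (U : Opens T) (G : AbSheaf T) :
    (freeFun.obj U ⟶ G) ≃ G.obj.obj (op U) :=
  ((sheafificationAdjunction _ _).homEquiv _ _).trans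
    (((AddCommGrpCat.adj.whiskerRight _).homEquiv _ _).trans yonedaEquiv)

theorem sectionsEquiv_comp {U : Opens T} {G G' : AbSheaf T} (φ : freeFun.obj U ⟶ G) (g : G ⟶ G') :
    sectionsEquiv U G' (φ ≫ g) = g.hom.app (op U) (sectionsEquiv U G φ) := by
  simp only [sectionsEquiv, Equiv.trans_apply]
  erw [Adjunction.homEquiv_naturality_right, Adjunction.homEquiv_naturality_right, yonedaEquiv_comp]

theorem sectionsEquiv_map {U V : Opens T} (i : V ⟶ U) {G : AbSheaf T} (φ : freeFun.obj U ⟶ G) :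
    sectionsEquiv V G (freeFun.map i ≫ φ) = G.obj.map i.op (sectionsEquiv U G φ) := by
  simp only [sectionsEquiv, Equiv.trans_apply]
  erw [Adjunction.homEquiv_naturality_left, Adjunction.homEquiv_naturality_left]
  erw [← yonedaEquiv_naturality]
  rfl

theorem sectionsEquiv_apply {U : Opens T} {G : AbSheaf T} (φ : freeFun.obj U ⟶ G) :
    sectionsEquiv U G φ = φ.hom.app (op U) (sectionsEquiv U _ (𝟙 _)) := by
  rw [← sectionsEquiv_comp, Category.id_comp]

/-- Morphisms from the free abelian sheaf on `U` are sections on `U`, additively. -/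
noncomputable def sectionsAddEquiv (U : Opens T) (G : AbSheaf T) :
    (freeFun.obj U ⟶ G) ≃+ G.obj.obj (op U) where
  __ := sectionsEquiv U G
  map_add' φ ψ := by
    show sectionsEquiv U G (φ + ψ) = sectionsEquiv U G φ + sectionsEquiv U G ψ
    rw [sectionsEquiv_apply, sectionsEquiv_apply φ, sectionsEquiv_apply ψ]
    rfl

theorem subsingleton_sections_bot (G : AbSheaf T) : Subsingleton (G.obj.obj (op (⊥ : Opens T))) :=
  AddCommGrpCat.subsingleton_of_isZero
    ((isZero_zero _).of_iso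
      ((TopCat.Sheaf.isTerminalOfEqEmpty (X := TopCat.of T) G rfl).uniqueUpToIso
        (isZero_zero AddCommGrpCat).isTerminal))

theorem isZero_freeFun_bot : IsZero (freeFun.obj (⊥ : Opens T)) := by
  rw [IsZero.iff_id_eq_zero]
  have := subsingleton_sections_bot (freeFun.obj (⊥ : Opens T))
  exact (sectionsEquiv _ _).injective (Subsingleton.elim _ _)

/-- Restriction in sheaf cohomology. -/
noncomputable def res (F : AbSheaf T) (n : ℕ) {U V : Opens T} (h : V ≤ U) :
    Ext.{u} (freeFun.obj U) F n →+ Ext.{u} (freeFun.obj V) F n :=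
  extRes freeFun F n (homOfLE h)

theorem res_eq_comp (F : AbSheaf T) (n : ℕ) {U V : Opens T} (h : V ≤ U)
    (x : Ext.{u} (freeFun.obj U) F n) :
    res F n h x = (Ext.mk₀ (freeFun.map (homOfLE h))).comp x (zero_add n) := rfl

theorem res_res (F : AbSheaf T) (n : ℕ) {U V W : Opens T} (h : V ≤ U) (h' : W ≤ V)
    (x : Ext.{u} (freeFun.obj U) F n) : res F n h' (res F n h x) = res F n (h'.trans h) x :=
  extRes_extRes freeFun F n _ _ x

theorem res_self (F : AbSheaf T) (n : ℕ) {U : Opens T} (h : U ≤ U)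
    (x : Ext.{u} (freeFun.obj U) F n) : res F n h x = x :=
  extRes_id freeFun F n U x

theorem res_comp {F G : AbSheaf T} {a n m : ℕ} (f : Ext.{u} F G a) (hm : n + a = m) {U V : Opens T}
    (h : V ≤ U) (x : Ext.{u} (freeFun.obj U) F n) :
    res G m h (x.comp f hm) = (res F n h x).comp f hm :=
  extRes_comp freeFun f hm _ x

theorem subsingleton_ext_freeFun_bot (F : AbSheaf T) (n : ℕ) :
    Subsingleton (Ext.{u} (freeFun.obj (⊥ : Opens T)) F n) :=
  subsingleton_of_forall_eq 0 (ext_eq_zero_of_isZero isZero_freeFun_bot F n)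

/-- `H^0(U, F) = F(U)`. -/
noncomputable def H0Equiv (F : AbSheaf T) (U : Opens T) :
    Ext.{u} (freeFun.obj U) F 0 ≃+ F.obj.obj (op U) :=
  Ext.addEquiv₀.trans (sectionsAddEquiv U F)

theorem H0Equiv_mk₀ {F : AbSheaf T} {U : Opens T} (φ : freeFun.obj U ⟶ F) :
    H0Equiv F U (Ext.mk₀ φ) = sectionsEquiv U F φ :=
  congrArg (sectionsEquiv U F) (Ext.addEquiv₀.apply_symm_apply φ)

theorem H0Equiv_res (F : AbSheaf T) {U V : Opens T} (h : V ≤ U)
    (x : Ext.{u} (freeFun.obj U) F 0) :
    H0Equiv F V (res F 0 h x) = F.obj.map (homOfLE h).op (H0Equiv F U x) := by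
  obtain ⟨φ, rfl⟩ := (Ext.mk₀_bijective _ _).surjective x
  rw [res_eq_comp, Ext.mk₀_comp_mk₀, H0Equiv_mk₀, H0Equiv_mk₀, sectionsEquiv_map]

theorem exists_res_eq_comp_epi {G Q : AbSheaf T} (g : G ⟶ Q) [Epi g] {U : Opens T}
    (s : Ext.{u} (freeFun.obj U) Q 0) (p : T) (hp : p ∈ U) :
    ∃ (V : Opens T) (hV : V ≤ U), p ∈ V ∧
      ∃ t : Ext.{u} (freeFun.obj V) G 0, t.comp (Ext.mk₀ g) (add_zero 0) = res Q 0 hV s := by
  obtain ⟨φ, rfl⟩ := (Ext.mk₀_bijective _ _).surjective s
  have : Presheaf.IsLocallySurjective (Opens.grothendieckTopology T) g.hom :=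
    (TopCat.Sheaf.isLocallySurjective_iff_epi (X := TopCat.of T) g).mpr ‹Epi g›
  obtain ⟨V, i, ⟨t, ht⟩, hpV⟩ :=
    Presheaf.imageSieve_mem (Opens.grothendieckTopology T) g.hom (sectionsEquiv U Q φ) p hp
  refine ⟨V, i.le, hpV, Ext.mk₀ ((sectionsEquiv V G).symm t), ?_⟩
  rw [res_eq_comp, Ext.mk₀_comp_mk₀, Ext.mk₀_comp_mk₀]
  congr 1
  apply (sectionsEquiv V Q).injective
  rw [sectionsEquiv_comp, sectionsEquiv_map, Equiv.apply_symm_apply, ht]
  rfl

/-- A cohomology class of positive degree vanishes locally. -/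
theorem exists_res_eq_zero (F : AbSheaf T) (n : ℕ) {U : Opens T}
    (x : Ext.{u} (freeFun.obj U) F (n + 1)) (p : T) (hp : p ∈ U) :
    ∃ (V : Opens T) (hV : V ≤ U), p ∈ V ∧ res F (n + 1) hV x = 0 :=
  let ⟨V, i, hi, h⟩ := exists_extRes_eq_zero freeFun (fun {U V} (_ : V ⟶ U) => p ∈ V) U
    (fun g _ s => let ⟨V, hV, hpV, ht⟩ := exists_res_eq_comp_epi g s p hp
      ⟨V, homOfLE hV, hpV, ht⟩) F n x
  ⟨V, i.le, hi, h⟩

/-- Mayer-Vietoris: a class vanishing on two opens covering `U` is zero when every class one degree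
lower on the intersection is a difference of restrictions. -/
theorem eq_zero_of_res_eq_zero (F : AbSheaf T) (n : ℕ) {U V W : Opens T} (hU : V ⊔ W = U)
    (hsurj : ∀ y : Ext.{u} (freeFun.obj (V ⊓ W)) F n, ∃ a b,
      res F n (inf_le_left : V ⊓ W ≤ V) a - res F n (inf_le_right : V ⊓ W ≤ W) b = y)
    (x : Ext.{u} (freeFun.obj U) F (n + 1))
    (hV : res F (n + 1) (hU ▸ le_sup_left : V ≤ U) x = 0)
    (hW : res F (n + 1) (hU ▸ le_sup_right : W ≤ U) x = 0) : x = 0 := by
  subst hU
  exact eq_zero_of_extRes_eq_zero freeFun F n _ _ _ _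
    (Opens.mayerVietorisSquare V W).shortComplex.zero
    (Opens.mayerVietorisSquare V W).shortComplex_shortExact hsurj x hV hW

/-- The constant sheaf `ℤ` is the free abelian sheaf on the whole space. -/
noncomputable def freeTopIso :
    freeFun.obj (⊤ : Opens T) ≅
      (constantSheaf (Opens.grothendieckTopology T) AddCommGrpCat.{u}).obj
        (AddCommGrpCat.of (ULift ℤ)) :=
  let c (G : AbSheaf T) :=
    ((constantSheafAdj (Opens.grothendieckTopology T) AddCommGrpCat.{u}
      (isTerminalTop (α := Opens T))).homAddEquiv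
        (AddCommGrpCat.of (ULift ℤ)) G).trans (AddCommGrpCat.uliftZMultiplesAddEquiv _)
  have hc : ∀ {G G' : AbSheaf T} (φ) (g : G ⟶ G'), c G' (φ ≫ g) = g.hom.app (op ⊤) (c G φ) :=
    fun φ g ↦ rfl
  { hom := (sectionsEquiv ⊤ _).symm (c _ (𝟙 _))
    inv := (c _).symm (sectionsEquiv ⊤ _ (𝟙 _))
    hom_inv_id := by
      apply (sectionsEquiv ⊤ _).injective
      rw [sectionsEquiv_comp, Equiv.apply_symm_apply, ← hc, Category.id_comp,
        AddEquiv.apply_symm_apply]
    inv_hom_id := by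
      apply (c _).injective
      rw [hc, AddEquiv.apply_symm_apply, ← sectionsEquiv_comp, Category.id_comp,
        Equiv.apply_symm_apply] }

/-- `H^n(T, F)` is `H^n` on the open `⊤`. -/
noncomputable def HEquivTop (F : AbSheaf T) (n : ℕ) :
    Sheaf.H F n ≃+ Ext.{u} (freeFun.obj (⊤ : Opens T)) F n :=
  extPrecompIso freeTopIso F n

end GrothLib.Cohom
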