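import Groth.Agent.Lib.Cohom.Basic

/-!
# Sections of a short exact sequence of abelian sheaves
-/

universe u

open CategoryTheory CategoryTheory.Limits Opposite TopologicalSpace Abelian

namespace GrothLib.Cohom

variable {T : Type u} [TopologicalSpace T] {S : ShortComplex (AbSheaf T)}

theorem H0Equiv_comp_mk₀ {F G : AbSheaf T} (f : F ⟶ G) (U : Opens T)
    (x : Ext.{u} (freeFun.obj U) F 0) :
    H0Equiv G U (x.comp (Ext.mk₀ f) (add_zero 0)) = f.hom.app (op U) (H0Equiv F U x) := by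
  obtain ⟨φ, rfl⟩ := (Ext.mk₀_bijective _ _).surjective x
  rw [Ext.mk₀_comp_mk₀, H0Equiv_mk₀, H0Equiv_mk₀, sectionsEquiv_comp]

theorem sections_injective (hS : S.ShortExact) (U : Opens T) :
    Function.Injective (S.f.hom.app (op U)) := by
  have := hS.mono_f
  intro a b hab
  apply (sectionsEquiv U S.X₁).symm.injective
  rw [← cancel_mono S.f]
  apply (sectionsEquiv U S.X₂).injective
  rw [sectionsEquiv_comp, sectionsEquiv_comp, Equiv.apply_symm_apply, Equiv.apply_symm_apply, hab]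

theorem sections_comp_zero (U : Opens T) (a : S.X₁.obj.obj (op U)) :
    S.g.hom.app (op U) (S.f.hom.app (op U) a) = 0 := by
  rw [← ConcreteCategory.comp_apply, ← NatTrans.comp_app, ← ObjectProperty.FullSubcategory.comp_hom,
    S.zero]
  rfl

theorem sections_exact (hS : S.ShortExact) (U : Opens T) (b : S.X₂.obj.obj (op U))
    (hb : S.g.hom.app (op U) b = 0) : ∃ a, S.f.hom.app (op U) a = b := by
  obtain ⟨x, hx⟩ := Ext.covariant_sequence_exact₂ _ hS ((H0Equiv S.X₂ U).symm b) (by
    apply (H0Equiv S.X₃ U).injective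
    rw [H0Equiv_comp_mk₀, AddEquiv.apply_symm_apply, hb, map_zero])
  refine ⟨H0Equiv S.X₁ U x, ?_⟩
  rw [← H0Equiv_comp_mk₀, hx, AddEquiv.apply_symm_apply]

theorem sections_surjective (hS : S.ShortExact) (U : Opens T)
    (h : Subsingleton (Ext.{u} (freeFun.obj U) S.X₁ 1)) :
    Function.Surjective (S.g.hom.app (op U)) := by
  intro c
  obtain ⟨x, hx⟩ := Ext.covariant_sequence_exact₃ _ hS ((H0Equiv S.X₃ U).symm c) rfl
    (Subsingleton.elim _ _)
  refine ⟨H0Equiv S.X₂ U x, ?_⟩
  rw [← H0Equiv_comp_mk₀, hx, AddEquiv.apply_symm_apply]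

end GrothLib.Cohom
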