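import Groth.Agent.Lib.Cohom.Compare
import Groth.Agent.Lib.QCoh.Extension
import Groth.Agent.Lib.QCoh.Abelian
import Groth.Agent.Lib.QCoh.Qcqs
import Groth.Prelude.Def_ClSub2
import Mathlib.Topology.Separation.Basic
import Mathlib.AlgebraicGeometry.Morphisms.Affine

/-!
# Serre's criterion of affineness
-/

universe u

open CategoryTheory CategoryTheory.Limits Opposite TopologicalSpace AlgebraicGeometry Abelian

namespace GrothLib.Cohom

variable {X : Scheme.{u}}

theorem isQuasicoherent_structureModule (X : Scheme.{u}) :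
    (Coh.structureModule X).IsQuasicoherent := by
  refine (QCoh.isQuasicoherent_iff_smulLift_smulSep (X := X) _).2 fun U hU g ↦ ⟨fun s ↦ ?_, fun t ht ↦ ?_⟩
  · obtain ⟨n, y, hy⟩ := exists_eq_pow_mul_of_isAffineOpen X U hU g s
    exact ⟨n, y, hy⟩
  · obtain ⟨n, hn⟩ := exists_pow_mul_eq_zero_of_res_basicOpen_eq_zero_of_isAffineOpen X hU t g ht
    exact ⟨n, hn⟩

theorem isQuasicoherent_biprod (M N : X.Modules) [M.IsQuasicoherent] [N.IsQuasicoherent] :
    (M ⊞ N).IsQuasicoherent :=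
  have h := (ShortComplex.Splitting.ofHasBinaryBiproduct M N).shortExact
  have h₁ : (ShortComplex.mk (biprod.inl : M ⟶ M ⊞ N) biprod.snd (by simp)).X₁.IsQuasicoherent :=
    inferInstanceAs M.IsQuasicoherent
  have h₃ : (ShortComplex.mk (biprod.inl : M ⟶ M ⊞ N) biprod.snd (by simp)).X₃.IsQuasicoherent :=
    inferInstanceAs N.IsQuasicoherent
  @QCoh.isQuasicoherent_X₂ _ _ h h₁ h₃

theorem app_injective_of_mono {M N : X.Modules} (φ : M ⟶ N) [Mono φ] (U : X.Opens) :
    Function.Injective (φ.app U) :=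
  QCoh.app_injective
    (S := ShortComplex.mk φ (cokernel.π φ) (cokernel.condition φ))
    { exact := ShortComplex.exact_cokernel φ } U

/-- A section locally in the image is in the image when `H¹` of the kernel vanishes. -/
theorem exists_lift_of_locally {M Q : X.Modules} (g : M ⟶ Q) (U : X.Opens)
    (h : Subsingleton (Ext.{u} (freeFun.obj U) (Coh.toAb (kernel g)) 1)) (q : Γ(Q, U))
    (hq : ∀ p ∈ U, ∃ (V : X.Opens) (i : V ≤ U), p ∈ V ∧
      ∃ r, g.app V r = Q.presheaf.map (homOfLE i).op q) :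
    ∃ m, g.app U m = q := by
  have hS : (ShortComplex.mk (kernel.ι g) (Abelian.coimage.π g) (cokernel.condition _)).ShortExact :=
    { exact := ShortComplex.exact_cokernel _ }
  let m := Abelian.factorThruCoimage g
  have hm : Abelian.coimage.π g ≫ m = g := Abelian.coimage.fac g
  have hgapp (V : X.Opens) (r : Γ(M, V)) : m.app V ((Abelian.coimage.π g).app V r) = g.app V r := by
    conv_rhs => rw [← hm]
    rfl
  choose V i hpV r hr using fun p : U ↦ hq p.1 p.2
  let C : TopCat.Sheaf AddCommGrpCat.{u} X :=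
    ⟨(Abelian.coimage g).presheaf, (Abelian.coimage g).isSheaf⟩
  obtain ⟨c, hc, -⟩ := TopCat.Sheaf.existsUnique_gluing' C V U (fun p ↦ homOfLE (i p))
    (fun p hp ↦ Opens.mem_iSup.2 ⟨⟨p, hp⟩, hpV _⟩)
    (fun p ↦ (Abelian.coimage.π g).app (V p) (r p)) (fun p p' ↦ by
      apply app_injective_of_mono m
      change m.app _ ((Abelian.coimage g).presheaf.map (Opens.infLELeft (V p) (V p')).op _) =
        m.app _ ((Abelian.coimage g).presheaf.map (Opens.infLERight (V p) (V p')).op _)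
      rw [← QCoh.map_app m, ← QCoh.map_app m, hgapp, hgapp, hr, hr,
        ← ConcreteCategory.comp_apply, ← ConcreteCategory.comp_apply, ← Functor.map_comp,
        ← Functor.map_comp]
      rfl)
  obtain ⟨a, ha⟩ := QCoh.app_surjective_of_subsingleton hS U h c
  refine ⟨a, ?_⟩
  apply TopCat.Sheaf.eq_of_locally_eq' ⟨Q.presheaf, Q.isSheaf⟩ V U (fun p ↦ homOfLE (i p))
    (fun p hp ↦ Opens.mem_iSup.2 ⟨⟨p, hp⟩, hpV _⟩)
  intro p
  change Q.presheaf.map (homOfLE (i p)).op (g.app U a) = Q.presheaf.map (homOfLE (i p)).op q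
  rw [← hr p, ← hgapp, ← hgapp, ha, QCoh.map_app]
  exact congrArg _ (hc p)

theorem subsingleton_ext_top_of_HH {M : X.Modules} {n : ℕ} (h : Subsingleton (Coh.HH X M n)) :
    Subsingleton (Ext.{u} (freeFun.obj (⊤ : X.Opens)) (Coh.toAb M) n) :=
  @Equiv.subsingleton _ _ (HEquivTop (Coh.toAb M) n).symm.toEquiv h

/-- Every quasi-coherent submodule has vanishing `H¹`. -/
def SubH1Zero (M : X.Modules) : Prop :=
  ∀ (N : X.Modules) (i : N ⟶ M), Mono i → N.IsQuasicoherent →
    Subsingleton (Ext.{u} (freeFun.obj (⊤ : X.Opens)) (Coh.toAb N) 1)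

theorem SubH1Zero.extension {S : ShortComplex X.Modules} (hS : S.ShortExact)
    [S.X₁.IsQuasicoherent] [S.X₂.IsQuasicoherent] [S.X₃.IsQuasicoherent]
    (h₁ : SubH1Zero S.X₁) (h₃ : SubH1Zero S.X₃) : SubH1Zero S.X₂ := by
  intro N i _ _
  have := hS.mono_f
  let φ := i ≫ S.g
  have hK := QCoh.isQuasicoherent_kernel φ
  have hI : (Abelian.coimage φ).IsQuasicoherent := QCoh.isQuasicoherent_cokernel _
  let j : kernel φ ⟶ S.X₁ :=
    hS.exact.lift (kernel.ι φ ≫ i) (by rw [Category.assoc]; exact kernel.condition φ)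
  have : Mono j := by
    have : j ≫ S.f = kernel.ι φ ≫ i := hS.exact.lift_f _ _
    exact @mono_of_mono _ _ _ _ _ j S.f (by rw [this]; infer_instance)
  have hT : (ShortComplex.mk (kernel.ι φ) (Abelian.coimage.π φ) (cokernel.condition _)).ShortExact :=
    { exact := ShortComplex.exact_cokernel _ }
  have h₁' := h₁ _ j this hK
  have h₃' := h₃ _ (Abelian.factorThruCoimage φ) inferInstance hI
  refine subsingleton_of_forall_eq 0 fun x ↦ ?_
  have hT' := QCoh.toAbFun_map_shortExact _ hT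
  have hx : x.comp (Ext.mk₀ ((QCoh.toAbFun X).map (Abelian.coimage.π φ))) (add_zero 1) = 0 :=
    @Subsingleton.elim _ h₃' _ _
  obtain ⟨y, rfl⟩ := Ext.covariant_sequence_exact₂ _ hT' x hx
  rw [@Subsingleton.elim _ h₁' y 0]
  exact Ext.zero_comp _ _ _ _ _

variable (h : SubH1Zero (Coh.structureModule X))

include h in
/-- A closed point in an affine open `U` has a neighbourhood `X_f ⊆ U` with `f` global. -/
theorem exists_basicOpen_le_of_closedPoint {x : X} (hx : IsClosed ({x} : Set X)) {U : X.Opens}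
    (hU : IsAffineOpen U) (hxU : x ∈ U) :
    ∃ f : Γ(X, ⊤), x ∈ X.basicOpen f ∧ IsAffineOpen (X.basicOpen f) := by
  let Z : Closeds X := ⟨(U : Set X)ᶜ ∪ {x}, U.isOpen.isClosed_compl.union hx⟩
  let I := Scheme.IdealSheafData.vanishingIdeal Z
  let ι := I.subschemeι
  have hrange : ∀ z, ι z ∈ U → ι z = x := fun z hz ↦ by
    have : ι z ∈ (Z : Set X) := by
      rw [← Scheme.IdealSheafData.coe_support_vanishingIdeal (Z := Z)]
      rw [← Scheme.IdealSheafData.range_subschemeι]
      exact ⟨z, rfl⟩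
    exact this.resolve_left (fun h ↦ h hz)
  let V₀ : X.Opens := ⟨{x}ᶜ, hx.isOpen_compl⟩
  let W : ULift.{u} Bool → X.Opens := fun b ↦ if b.down then U else V₀
  let c : ∀ b, Γ(I.subscheme, ι ⁻¹ᵁ W b) := fun b ↦ if b.down then 1 else 0
  have hcov : ⊤ ≤ ⨆ b, ι ⁻¹ᵁ W b := fun z _ ↦ Opens.mem_iSup.2 <| by
    by_cases hz : ι z ∈ U
    · exact ⟨⟨true⟩, hz⟩
    · exact ⟨⟨false⟩, fun h ↦ hz (h ▸ hxU)⟩
  obtain ⟨e, he, -⟩ := TopCat.Sheaf.existsUnique_gluing' I.subscheme.sheaf (fun b ↦ ι ⁻¹ᵁ W b) ⊤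
    (fun b ↦ homOfLE le_top) hcov c (fun a b ↦ by
      rcases a with ⟨⟨⟩⟩ <;> rcases b with ⟨⟨⟩⟩
      case false.false => rfl
      case true.true => rfl
      all_goals
        refine @Subsingleton.elim _ ?_ _ _
        have hbot : ι ⁻¹ᵁ U ⊓ ι ⁻¹ᵁ V₀ = ⊥ :=
          le_antisymm (fun z hz ↦ (hz.2 (hrange z hz.1)).elim) bot_le
        have h₁ : Subsingleton Γ(I.subscheme, ι ⁻¹ᵁ U ⊓ ι ⁻¹ᵁ V₀) := by rw [hbot]; infer_instance
        have h₂ : Subsingleton Γ(I.subscheme, ι ⁻¹ᵁ V₀ ⊓ ι ⁻¹ᵁ U) := by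
          rw [inf_comm, hbot]; infer_instance
        first | exact h₁ | exact h₂)
  have hqc := isQuasicoherent_structureModule X
  have := isQuasicoherent_structureModule I.subscheme
  have := QCoh.isQuasicoherent_pushforward ι (Coh.structureModule I.subscheme)
  have hker := h _ (kernel.ι (ClSub.toSubscheme I)) inferInstance
    (QCoh.isQuasicoherent_kernel (ClSub.toSubscheme I))
  obtain ⟨f, hf⟩ := exists_lift_of_locally (ClSub.toSubscheme I) ⊤ hker
    (show Γ(I.subscheme, ι ⁻¹ᵁ ⊤) from e) fun p _ ↦ by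
      by_cases hp : p ∈ U
      · exact ⟨U, le_top, hp, (1 : Γ(X, U)), (map_one (ι.app U).hom).trans (he ⟨true⟩).symm⟩
      · exact ⟨V₀, le_top, fun h ↦ hp (h ▸ hxU), (0 : Γ(X, V₀)),
          (map_zero (ι.app V₀).hom).trans (he ⟨false⟩).symm⟩
  replace hf : ι.app ⊤ f = e := hf
  have hbo : ι ⁻¹ᵁ X.basicOpen f = I.subscheme.basicOpen e := by
    rw [Scheme.preimage_basicOpen]
    exact congrArg I.subscheme.basicOpen hf
  have hpt : ∀ y, y ∈ (Z : Set X) → ∃ z, ι z = y := fun y hy ↦ by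
    rw [← Scheme.IdealSheafData.coe_support_vanishingIdeal (Z := Z),
      ← Scheme.IdealSheafData.range_subschemeι] at hy
    exact hy
  have hle : X.basicOpen f ≤ U := fun y hy ↦ by
    by_contra hyU
    obtain ⟨z, rfl⟩ := hpt y (Or.inl hyU)
    have hz : z ∈ I.subscheme.basicOpen e := hbo ▸ hy
    have hzV : z ∈ ι ⁻¹ᵁ W ⟨false⟩ := fun h ↦ hyU (h ▸ hxU)
    have : z ∈ I.subscheme.basicOpen (c ⟨false⟩) := by
      rw [← he ⟨false⟩]
      erw [Scheme.basicOpen_res]
      exact ⟨hzV, hz⟩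
    exact (Scheme.basicOpen_zero I.subscheme _).le this
  refine ⟨f, ?_, ?_⟩
  · obtain ⟨z, hzx⟩ := hpt x (Or.inr rfl)
    have hz : z ∈ I.subscheme.basicOpen (c ⟨true⟩) := by
      rw [show c ⟨true⟩ = 1 from rfl, Scheme.basicOpen_of_isUnit _ isUnit_one]
      exact (show ι z ∈ U from hzx.symm ▸ hxU)
    refine hzx ▸ (?_ : ι z ∈ X.basicOpen f)
    rw [← he ⟨true⟩] at hz
    erw [Scheme.basicOpen_res] at hz
    exact hbo.ge hz.2
  · have := hU.basicOpen (X.presheaf.map (homOfLE (le_top (a := U))).op f)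
    rwa [Scheme.basicOpen_res, inf_eq_right.2 hle] at this

/-- Multiplication by a global function. -/
noncomputable def mulHom (f : Γ(X, ⊤)) : Coh.structureModule X ⟶ Coh.structureModule X :=
  (SheafOfModules.unitHomEquiv _).symm
    ⟨fun U ↦ X.presheaf.map (homOfLE le_top).op f, fun {U V} i ↦
      (ConcreteCategory.congr_hom (X.presheaf.map_comp (homOfLE (le_top (a := U.unop))).op i) f).symm⟩

theorem mulHom_app_one (f : Γ(X, ⊤)) : (mulHom f).app ⊤ (1 : Γ(X, ⊤)) = f := by
  have := congrArg (fun s ↦ s.val (op ⊤))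
    ((SheafOfModules.unitHomEquiv (Coh.structureModule X)).apply_symm_apply
      ⟨fun U ↦ X.presheaf.map (homOfLE le_top).op f, fun {U V} i ↦
        (ConcreteCategory.congr_hom (X.presheaf.map_comp (homOfLE (le_top (a := U.unop))).op i) f).symm⟩)
  exact this.trans (by
    change X.presheaf.map (homOfLE (le_top (a := (⊤ : X.Opens)))).op f = f
    rw [show (homOfLE (le_top (a := (⊤ : X.Opens)))).op = 𝟙 _ from rfl,
      CategoryTheory.Functor.map_id, ConcreteCategory.id_apply])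

/-- The value on global sections, as a global function. -/
noncomputable abbrev appFun {M : X.Modules} (g : M ⟶ Coh.structureModule X) (m : Γ(M, ⊤)) :
    Γ(X, ⊤) := g.app ⊤ m

theorem mulHom_app_apply (f r : Γ(X, ⊤)) : appFun (mulHom f) r = r * f := by
  refine Eq.trans ?_ (congrArg (fun a : Γ(X, ⊤) ↦ r * a) (mulHom_app_one f))
  refine Eq.trans ?_ (Scheme.Modules.Hom.app_smul (mulHom f) r (1 : Γ(X, ⊤)))
  exact congrArg (fun a : Γ(X, ⊤) ↦ appFun (mulHom f) a) (mul_one r).symm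

include h in
/-- A finite family of global functions as the image of a module with `SubH1Zero`. -/
theorem exists_source (s : Finset Γ(X, ⊤)) :
    ∃ (M : X.Modules) (g : M ⟶ Coh.structureModule X), M.IsQuasicoherent ∧ SubH1Zero M ∧
      (∀ f ∈ s, ∃ m, g.app ⊤ m = f) ∧
      ∀ m, appFun g m ∈ Ideal.span (↑s : Set Γ(X, ⊤)) := by
  classical
  have hqc := isQuasicoherent_structureModule X
  induction s using Finset.induction with
  | empty => exact ⟨Coh.structureModule X, 0, hqc, h, by simp, fun m ↦ Submodule.zero_mem _⟩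
  | @insert a s _ ih =>
    obtain ⟨M, g, hM, hM', hg, hgs⟩ := ih
    refine ⟨M ⊞ Coh.structureModule X, biprod.desc g (mulHom a), isQuasicoherent_biprod M _, ?_, ?_,
      fun m ↦ ?_⟩
    rotate_left 2
    · have hd : biprod.desc g (mulHom a) = biprod.fst ≫ g + biprod.snd ≫ mulHom a := biprod.desc_eq
      rw [hd, Finset.coe_insert]
      show appFun (biprod.fst ≫ g) m + appFun (biprod.snd ≫ mulHom a) m ∈ _
      refine Submodule.add_mem _ (Ideal.span_mono (Set.subset_insert _ _) (hgs _)) ?_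
      show appFun (mulHom a) ((biprod.snd : M ⊞ Coh.structureModule X ⟶ _).app ⊤ m) ∈ _
      exact (mulHom_app_apply a _).symm ▸
        Ideal.mul_mem_left _ _ (Ideal.subset_span (Set.mem_insert _ _))
    · have : (ShortComplex.mk (biprod.inl : M ⟶ M ⊞ Coh.structureModule X) biprod.snd
          (by simp)).X₂.IsQuasicoherent := isQuasicoherent_biprod M _
      exact @SubH1Zero.extension _
        (ShortComplex.mk (biprod.inl : M ⟶ M ⊞ Coh.structureModule X) biprod.snd (by simp))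
        (ShortComplex.Splitting.ofHasBinaryBiproduct M (Coh.structureModule X)).shortExact
        hM this hqc hM' h
    · intro f hf
      rcases Finset.mem_insert.1 hf with rfl | hf
      · refine ⟨(biprod.inr : _ ⟶ M ⊞ Coh.structureModule X).app ⊤ (1 : Γ(X, ⊤)), ?_⟩
        change ((biprod.inr : _ ⟶ M ⊞ Coh.structureModule X) ≫ biprod.desc g (mulHom f)).app ⊤ _ = _
        rw [biprod.inr_desc]
        exact mulHom_app_one f
      · obtain ⟨m, rfl⟩ := hg f hf
        refine ⟨(biprod.inl : M ⟶ M ⊞ Coh.structureModule X).app ⊤ m, ?_⟩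
        change ((biprod.inl : M ⟶ M ⊞ Coh.structureModule X) ≫ biprod.desc g (mulHom a)).app ⊤ _ = _
        rw [biprod.inl_desc]

include h in
/-- Serre's criterion. -/
theorem isAffine_of_subH1Zero [CompactSpace X] : IsAffine X := by
  classical
  let S : Set Γ(X, ⊤) := {f | IsAffineOpen (X.basicOpen f)}
  have hcov : ∀ x : X, ∃ f ∈ S, x ∈ X.basicOpen f := by
    intro x
    obtain ⟨y, hy, hyc⟩ := IsClosed.exists_closed_singleton (isClosed_closure (s := ({x} : Set X)))
      ⟨x, subset_closure rfl⟩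
    obtain ⟨U, hU, hyU, -⟩ := Opens.isBasis_iff_nbhd.1 X.isBasis_affineOpens (Opens.mem_top y)
    obtain ⟨f, hyf, hf⟩ := exists_basicOpen_le_of_closedPoint h hyc hU hyU
    exact ⟨f, hf, (specializes_iff_mem_closure.2 hy).mem_open (X.basicOpen f).isOpen hyf⟩
  choose f hfS hxf using hcov
  obtain ⟨t, ht⟩ := isCompact_univ.elim_finite_subcover (fun x : X ↦ (X.basicOpen (f x) : Set X))
    (fun x ↦ (X.basicOpen (f x)).isOpen) fun x _ ↦ Set.mem_iUnion.2 ⟨x, hxf x⟩
  obtain ⟨M, g, hM, hM', hg, hgs⟩ := exists_source h (t.image f)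
  have hqc := isQuasicoherent_structureModule X
  refine isAffine_of_isAffineOpen_basicOpen (↑(t.image f)) ?_ fun i hi ↦ ?_
  swap
  · obtain ⟨x, -, rfl⟩ := Finset.mem_image.1 (Finset.mem_coe.1 hi)
    exact hfS x
  obtain ⟨m, hm⟩ := exists_lift_of_locally g ⊤
    (hM' _ (kernel.ι g) inferInstance (QCoh.isQuasicoherent_kernel g)) (1 : Γ(X, ⊤)) fun p _ ↦ by
      obtain ⟨x, hxt, hx⟩ := Set.mem_iUnion₂.1 (ht (Set.mem_univ p))
      obtain ⟨m, hm⟩ := hg (f x) (Finset.mem_image_of_mem f hxt)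
      obtain ⟨w, hw⟩ : IsUnit (X.presheaf.map (homOfLE (le_top (a := X.basicOpen (f x)))).op (f x)) :=
        X.toRingedSpace.isUnit_res_basicOpen (f x)
      refine ⟨X.basicOpen (f x), le_top, hx,
        (↑w⁻¹ : Γ(X, X.basicOpen (f x))) • M.presheaf.map (homOfLE le_top).op m, ?_⟩
      rw [Scheme.Modules.Hom.app_smul, ← QCoh.map_app, hm]
      refine Eq.trans ?_ (map_one (X.presheaf.map (homOfLE (le_top (a := X.basicOpen (f x)))).op).hom).symm
      exact (congrArg (fun a ↦ (↑w⁻¹ : Γ(X, X.basicOpen (f x))) * a) hw.symm).trans w.inv_mul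
  rw [Ideal.eq_top_iff_one]
  have hm' : appFun g m = 1 := hm
  exact hm' ▸ hgs m

end GrothLib.Cohom
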