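import Groth.Agent.Lib.Cohom.Cocycle
import Groth.Agent.Lib.Cohom.Serre
import Groth.Agent.Lib.Cohom.Basic
import Mathlib.Algebra.Homology.ShortComplex.Ab

/-!
# Sections of the homology sheaves of a complex of modules

If the cohomology of the complexes of sections localises on affine opens, the homology sheaf is
quasi-coherent and its sections on an affine open are cocycles modulo coboundaries.
-/

set_option backward.isDefEq.respectTransparency false

universe u

open CategoryTheory CategoryTheory.Limits Opposite TopologicalSpace AlgebraicGeometry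
open GrothLib.Cohom (ringMap_map_apply)

namespace GrothLib.Cocyc

variable {X : Scheme.{u}}

theorem exists_local_preimage {A B : X.Modules} (φ : A ⟶ B) [Epi φ] {V : X.Opens} (s : Γ(B, V))
    (x : X) (hx : x ∈ V) :
    ∃ (W : X.Opens) (h : W ≤ V), x ∈ W ∧ ∃ t : Γ(A, W), φ.app W t = rs h s := by
  have : Epi ((QCoh.toAbFun X).map φ) := QCoh.toSheaf_map_epi φ
  have : Presheaf.IsLocallySurjective (Opens.grothendieckTopology X)
      ((QCoh.toAbFun X).map φ).hom :=
    (TopCat.Sheaf.isLocallySurjective_iff_epi (X := TopCat.of X) _).mpr ‹_›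
  obtain ⟨W, i, ⟨t, ht⟩, hxW⟩ :=
    Presheaf.imageSieve_mem (Opens.grothendieckTopology X) ((QCoh.toAbFun X).map φ).hom s x hx
  exact ⟨W, i.le, hxW, t, ht⟩

variable (P : CochainComplex X.Modules ℕ) (p : ℕ)

theorem iCycles_app_injective (V : X.Opens) : Function.Injective ((P.iCycles p).app V) :=
  Cohom.app_injective_of_mono _ V

theorem exists_cycle {V : X.Opens} (z : Γ(P.X p, V)) (hz : Coc P p z) :
    ∃ c : Γ(P.cycles p, V), (P.iCycles p).app V c = z := by
  let E : X.Modules ⥤ AddCommGrpCat.{u} :=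
    QCoh.toAbFun X ⋙ sheafToPresheaf _ _ ⋙ (evaluation _ _).obj (op V)
  have : PreservesFiniteLimits (QCoh.toAbFun X) :=
    have : PreservesFiniteColimits (QCoh.toAbFun X) :=
      QCoh.toSheaf_preservesFiniteColimits (R := X.ringCatSheaf)
    (((QCoh.toAbFun X).exact_tfae.out 0 3
      (a := ∀ (T : ShortComplex X.Modules), T.ShortExact → (T.map (QCoh.toAbFun X)).ShortExact)
      (b := PreservesFiniteLimits (QCoh.toAbFun X) ∧ PreservesFiniteColimits (QCoh.toAbFun X))).1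
        QCoh.toAbFun_map_shortExact).1
  have : PreservesFiniteLimits E := inferInstance
  have : E.PreservesZeroMorphisms := inferInstance
  have h := ShortComplex.exact_of_f_is_kernel
    (ShortComplex.mk (E.map (P.iCycles p)) (E.map (P.d p (p + 1)))
      (by rw [← E.map_comp, P.iCycles_d, E.map_zero]))
    (isLimitForkMapOfIsLimit' E (P.iCycles_d p (p + 1))
      (P.cyclesIsKernel p (p + 1) (by simp)))
  rw [ShortComplex.ab_exact_iff] at h
  exact h z hz

/-- The cycle of a cocycle. -/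
noncomputable def cyc {V : X.Opens} (z : Γ(P.X p, V)) (hz : Coc P p z) : Γ(P.cycles p, V) :=
  (exists_cycle P p z hz).choose

theorem iCycles_cyc {V : X.Opens} (z : Γ(P.X p, V)) (hz : Coc P p z) :
    (P.iCycles p).app V (cyc P p z hz) = z :=
  (exists_cycle P p z hz).choose_spec

/-- The section of the homology sheaf defined by a cocycle. -/
noncomputable def hcls {V : X.Opens} (z : Γ(P.X p, V)) (hz : Coc P p z) : Γ(P.homology p, V) :=
  (P.homologyπ p).app V (cyc P p z hz)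

theorem cyc_eq {V : X.Opens} (z : Γ(P.X p, V)) (hz : Coc P p z) {c : Γ(P.cycles p, V)}
    (h : (P.iCycles p).app V c = z) : cyc P p z hz = c :=
  iCycles_app_injective P p V ((iCycles_cyc P p z hz).trans h.symm)

theorem hcls_add {V : X.Opens} (a b : Γ(P.X p, V)) (ha : Coc P p a) (hb : Coc P p b) :
    hcls P p (a + b) (ha.add hb) = hcls P p a ha + hcls P p b hb := by
  rw [hcls, cyc_eq P p _ _ (c := cyc P p a ha + cyc P p b hb)
    (by rw [map_add, iCycles_cyc, iCycles_cyc]), map_add]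
  rfl

theorem hcls_sub {V : X.Opens} (a b : Γ(P.X p, V)) (ha : Coc P p a) (hb : Coc P p b) :
    hcls P p (a - b) (ha.sub hb) = hcls P p a ha - hcls P p b hb := by
  rw [hcls, cyc_eq P p _ _ (c := cyc P p a ha - cyc P p b hb)
    (by rw [map_sub, iCycles_cyc, iCycles_cyc]), map_sub]
  rfl

theorem hcls_zero {V : X.Opens} : hcls P p (0 : Γ(P.X p, V)) Coc.zero = 0 := by
  rw [hcls, cyc_eq P p _ _ (c := 0) (map_zero _), map_zero]

theorem hcls_rs {V W : X.Opens} (h : W ≤ V) (z : Γ(P.X p, V)) (hz : Coc P p z) :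
    hcls P p (rs h z) (hz.rs h) = rs h (hcls P p z hz) := by
  rw [hcls, cyc_eq P p _ _ (c := rs h (cyc P p z hz)) (by rw [app_rs, iCycles_cyc]), app_rs]
  rfl

theorem coc_smul {V : X.Opens} (r : Γ(X, V)) {z : Γ(P.X p, V)} (hz : Coc P p z) :
    Coc P p (r • z) :=
  ((QCoh.appLinear (P.d p (p + 1)) V).map_smul r z).trans
    ((congrArg (r • ·) hz).trans (smul_zero r))

theorem hcls_smul {V : X.Opens} (r : Γ(X, V)) (z : Γ(P.X p, V)) (hz : Coc P p z) :
    hcls P p (r • z) (coc_smul P p r hz) = r • hcls P p z hz := by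
  rw [hcls, cyc_eq P p _ _ (c := r • cyc P p z hz)
    (((QCoh.appLinear (P.iCycles p) V).map_smul r _).trans (congrArg (r • ·) (iCycles_cyc P p z hz)))]
  exact (QCoh.appLinear (P.homologyπ p) V).map_smul r _

theorem prev_eq : (ComplexShape.up ℕ).prev p = p - 1 := by
  cases p <;> simp

theorem hcls_eq_zero_of_bdy {V : X.Opens} (z : Γ(P.X p, V)) (hz : Coc P p z) (hb : Bdy P p z) :
    hcls P p z hz = 0 := by
  obtain ⟨w, rfl⟩ := hb
  rw [hcls, cyc_eq P p _ _ (c := (P.toCycles (p - 1) p).app V w) (by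
    rw [← ConcreteCategory.comp_apply, ← Scheme.Modules.Hom.comp_app, P.toCycles_i]),
    ← ConcreteCategory.comp_apply, ← Scheme.Modules.Hom.comp_app, P.toCycles_comp_homologyπ]
  rfl

theorem exists_hcls_local {V : X.Opens} (s : Γ(P.homology p, V)) (x : X) (hx : x ∈ V) :
    ∃ (W : X.Opens) (h : W ≤ V), x ∈ W ∧ ∃ (z : Γ(P.X p, W)) (hz : Coc P p z),
      hcls P p z hz = rs h s := by
  obtain ⟨W, h, hxW, c, hc⟩ := exists_local_preimage (P.homologyπ p) s x hx
  have hz : Coc P p ((P.iCycles p).app W c) := by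
    rw [Coc, ← ConcreteCategory.comp_apply, ← Scheme.Modules.Hom.comp_app, P.iCycles_d]
    rfl
  exact ⟨W, h, hxW, _, hz, by rw [hcls, cyc_eq P p _ hz rfl, hc]⟩

theorem exists_bdy_local {V : X.Opens} (z : Γ(P.X p, V)) (hz : Coc P p z)
    (h0 : hcls P p z hz = 0) (x : X) (hx : x ∈ V) :
    ∃ (W : X.Opens) (h : W ≤ V), x ∈ W ∧ Bdy P p (rs h z) := by
  let T : ShortComplex X.Modules :=
    ShortComplex.mk (P.toCycles (p - 1) p) (P.homologyπ p) (P.toCycles_comp_homologyπ (p - 1) p)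
  have hT : T.Exact := ShortComplex.exact_of_g_is_cokernel _
    (P.homologyIsCokernel (p - 1) p (prev_eq p))
  have : Epi (kernel.lift T.g T.f T.zero) := hT.epi_kernelLift
  have hk : ∃ k : Γ(kernel T.g, V), (kernel.ι T.g).app V k = cyc P p z hz := by
    let E : X.Modules ⥤ AddCommGrpCat.{u} :=
      QCoh.toAbFun X ⋙ sheafToPresheaf _ _ ⋙ (evaluation _ _).obj (op V)
    have : PreservesFiniteColimits (QCoh.toAbFun X) :=
      QCoh.toSheaf_preservesFiniteColimits (R := X.ringCatSheaf)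
    have : PreservesFiniteLimits (QCoh.toAbFun X) :=
      (((QCoh.toAbFun X).exact_tfae.out 0 3
        (a := ∀ (T : ShortComplex X.Modules), T.ShortExact → (T.map (QCoh.toAbFun X)).ShortExact)
        (b := PreservesFiniteLimits (QCoh.toAbFun X) ∧ PreservesFiniteColimits (QCoh.toAbFun X))).1
          QCoh.toAbFun_map_shortExact).1
    have h := ShortComplex.exact_of_f_is_kernel
      (ShortComplex.mk (E.map (kernel.ι T.g)) (E.map T.g)
        (by rw [← E.map_comp, kernel.condition, E.map_zero]))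
      (isLimitForkMapOfIsLimit' E (kernel.condition T.g) (kernelIsKernel T.g))
    rw [ShortComplex.ab_exact_iff] at h
    exact h _ h0
  obtain ⟨k, hk⟩ := hk
  obtain ⟨W, h, hxW, w, hw⟩ := exists_local_preimage (kernel.lift T.g T.f T.zero) k x hx
  refine ⟨W, h, hxW, w, ?_⟩
  have h1 : (P.toCycles (p - 1) p).app W w = rs h (cyc P p z hz) := by
    rw [← hk, ← app_rs, ← hw, ← ConcreteCategory.comp_apply, ← Scheme.Modules.Hom.comp_app,
      kernel.lift_ι]
  have h2 := congrArg ((P.iCycles p).app W) h1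
  rwa [← ConcreteCategory.comp_apply, ← Scheme.Modules.Hom.comp_app, P.toCycles_i, app_rs,
    iCycles_cyc] at h2

section Loc

/-- Cohomology of sections localises on affine opens. -/
def Localises : Prop :=
  ∀ (V : X.Opens), IsAffineOpen V → ∀ g : Γ(X, V), Sep g P p V ∧ Lift g P p V

variable {P p} (hP : Localises P p)

theorem exists_basicOpen_span {V : X.Opens} (hV : IsAffineOpen V) (Q : X.Opens → Prop)
    (hQ : ∀ {A B : X.Opens}, B ≤ A → Q A → Q B)
    (h : ∀ x ∈ V, ∃ W : X.Opens, W ≤ V ∧ x ∈ W ∧ Q W) :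
    ∃ S : Set Γ(X, V), Ideal.span S = ⊤ ∧ ∀ g ∈ S, Q (X.basicOpen g) := by
  refine ⟨{g | Q (X.basicOpen g)}, ?_, fun g hg ↦ hg⟩
  rw [← hV.iSup_basicOpen_eq_self_iff]
  refine le_antisymm (iSup_le fun g ↦ X.basicOpen_le g.1) fun x hx ↦ ?_
  obtain ⟨W, hWV, hxW, hW⟩ := h x hx
  obtain ⟨g, hg, hxg⟩ := hV.exists_basicOpen_le (V := W) ⟨x, hxW⟩ hx
  exact Opens.mem_iSup.2 ⟨⟨g, hQ hg hW⟩, hxg⟩

include hP in
theorem bdy_of_hcls_eq_zero {V : X.Opens} (hV : IsAffineOpen V) (z : Γ(P.X p, V)) (hz : Coc P p z)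
    (h0 : hcls P p z hz = 0) : Bdy P p z := by
  obtain ⟨S, hS, hSz⟩ := exists_basicOpen_span hV
    (fun W ↦ ∃ h : W ≤ V, Bdy P p (rs h z))
    (fun {A B} hBA ⟨h, hb⟩ ↦ ⟨hBA.trans h, by rw [← rs_rs h hBA]; exact hb.rs hBA⟩)
    (fun x hx ↦ let ⟨W, h, hxW, hb⟩ := exists_bdy_local P p z hz h0 x hx; ⟨W, h, hxW, h, hb⟩)
  let J : Ideal Γ(X, V) :=
    { carrier := {r | Bdy P p (r • z)}
      add_mem' := fun {a b} ha hb ↦ by
        change Bdy P p ((a + b) • z)
        rw [add_smul]; exact Bdy.add ha hb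
      zero_mem' := by
        change Bdy P p ((0 : Γ(X, V)) • z)
        rw [zero_smul]; exact ⟨0, map_zero _⟩
      smul_mem' := fun c r ⟨w, hw⟩ ↦ ⟨c • w,
        ((QCoh.appLinear (P.d (p - 1) p) V).map_smul c w).trans
          ((congrArg (c • ·) hw).trans (mul_smul c r z).symm)⟩ }
  have hJ : ⊤ ≤ J.radical := by
    rw [← hS, Ideal.span_le]
    intro g hg
    obtain ⟨h, hb⟩ := hSz g hg
    obtain ⟨k, hk⟩ := (hP V hV g).1 le_rfl z hz (by
      have := hb.rs (W := V ⊓ X.basicOpen g) inf_le_right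
      rwa [rs_rs] at this)
    refine ⟨k, show Bdy P p (g ^ k • z) from ?_⟩
    convert hk using 1
    simp only [gp, DistribSMul.toAddMonoidHom_apply]
    rw [show (homOfLE (le_refl V)).op = 𝟙 (op V) from rfl, X.presheaf.map_id]
    rfl
  have h1 : Bdy P p ((1 : Γ(X, V)) • z) :=
    (Ideal.eq_top_iff_one J).1 (Ideal.radical_eq_top.1 (top_le_iff.1 hJ))
  rwa [one_smul] at h1

include hP in
theorem exists_hcls_eq {V : X.Opens} (hV : IsAffineOpen V) (s : Γ(P.homology p, V)) :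
    ∃ (z : Γ(P.X p, V)) (hz : Coc P p z), hcls P p z hz = s := by
  obtain ⟨S₀, hS₀, hS₀'⟩ := exists_basicOpen_span hV
    (fun W ↦ ∃ (h : W ≤ V) (z : Γ(P.X p, W)) (hz : Coc P p z), hcls P p z hz = rs h s)
    (fun {A B} hBA ⟨h, z, hz, he⟩ ↦ ⟨hBA.trans h, rs hBA z, hz.rs _, by rw [hcls_rs P p hBA z hz, he, rs_rs]⟩)
    (fun x hx ↦ let ⟨W, h, hxW, z, hz, he⟩ := exists_hcls_local P p s x hx
      ⟨W, h, hxW, h, z, hz, he⟩)
  obtain ⟨S, hSS₀, hS⟩ := Submodule.mem_span_finite_of_mem_span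
    ((Ideal.eq_top_iff_one _).1 hS₀)
  let J : Ideal Γ(X, V) :=
    { carrier := {r | ∃ (z : Γ(P.X p, V)) (hz : Coc P p z), hcls P p z hz = r • s}
      add_mem' := fun {a b} ⟨z, hz, e⟩ ⟨z', hz', e'⟩ ↦
        ⟨z + z', hz.add hz', by rw [hcls_add P p z z' hz hz', e, e', add_smul]⟩
      zero_mem' := ⟨0, Coc.zero, by rw [hcls_zero, zero_smul]⟩
      smul_mem' := fun c r ⟨z, hz, e⟩ ↦ ⟨c • z, coc_smul P p c hz, by
        rw [hcls_smul P p c z hz, e, smul_smul]; rfl⟩ }
  suffices hJ : (S : Set Γ(X, V)) ⊆ J.radical by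
    have h1 : (1 : Γ(X, V)) ∈ J := (Ideal.eq_top_iff_one J).1 (Ideal.radical_eq_top.1
      ((Ideal.eq_top_iff_one _).2 (Ideal.span_le.2 hJ hS)))
    obtain ⟨z, hz, e⟩ := h1
    exact ⟨z, hz, e.trans (one_smul _ _)⟩
  intro g hg
  choose hle c hc he using fun g : S ↦ hS₀' g.1 (hSS₀ g.2)
  have hres : ∀ (W : X.Opens) (h : W ≤ V) (k : ℕ) (t : Γ(P.homology p, V)),
      rs h (g ^ k • t) = gp g h k (rs h t) := fun W h k t ↦ by
    simp only [gp, DistribSMul.toAddMonoidHom_apply, rs]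
    erw [Scheme.Modules.map_smul]
    rw [map_pow]
  obtain ⟨k, x, hx, hbx⟩ := (hP V hV g).2 le_rfl (rs inf_le_right (c ⟨g, hg⟩)) ((hc ⟨g, hg⟩).rs _)
  have ht : rs (inf_le_left : V ⊓ X.basicOpen g ≤ V) (hcls P p x hx - g ^ k • s) = 0 := by
    have h := hcls_eq_zero_of_bdy P p _ ((((hc ⟨g, hg⟩).rs _).gp g _ k).sub (hx.rs _)) hbx
    rw [hcls_sub P p _ _ (((hc ⟨g, hg⟩).rs _).gp g _ k) (hx.rs _), sub_eq_zero, hcls_rs P p _ x hx] at h
    rw [map_sub, sub_eq_zero, hres, ← h]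
    have e2 : hcls P p (gp g (inf_le_left : V ⊓ X.basicOpen g ≤ V) k (rs inf_le_right (c ⟨g, hg⟩)))
        (((hc ⟨g, hg⟩).rs _).gp g _ k) = gp g inf_le_left k
          (hcls P p (rs inf_le_right (c ⟨g, hg⟩)) ((hc ⟨g, hg⟩).rs _)) :=
      hcls_smul P p _ _ _
    rw [e2, hcls_rs P p _ _ (hc ⟨g, hg⟩), he, rs_rs]
  set t := hcls P p x hx - g ^ k • s
  have key : ∀ g' : S, ∃ m : ℕ, rs (X.basicOpen_le g'.1) (g ^ m • t) = 0 := by
    intro g'
    have hB : IsAffineOpen (X.basicOpen g'.1) := hV.basicOpen g'.1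
    set B := X.basicOpen g'.1
    set gB := X.presheaf.map (homOfLE (X.basicOpen_le g'.1)).op g
    obtain ⟨w, hw, hwt⟩ : ∃ (w : Γ(P.X p, B)) (hw : Coc P p w),
        hcls P p w hw = rs (X.basicOpen_le g'.1) t := by
      refine ⟨rs (X.basicOpen_le g'.1) x -
        (X.presheaf.map (homOfLE (X.basicOpen_le g'.1)).op g) ^ k • c g',
        (hx.rs _).sub (coc_smul P p _ (hc g')), ?_⟩
      rw [hcls_sub P p _ _ (hx.rs _) (coc_smul P p _ (hc g')), hcls_rs P p _ x hx,
        hcls_smul P p _ _ (hc g'), he, map_sub, hres]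
      rfl
    have hle' : B ⊓ X.basicOpen gB ≤ V ⊓ X.basicOpen g :=
      inf_le_inf (X.basicOpen_le _) ((X.basicOpen_res _ _).le.trans inf_le_right)
    have hzero : Bdy P p (rs (inf_le_left : B ⊓ X.basicOpen gB ≤ B) w) := by
      refine bdy_of_hcls_eq_zero hP ?_ _ (hw.rs _) ?_
      · rw [inf_eq_right.2 (X.basicOpen_le _)]; exact hB.basicOpen gB
      · rw [hcls_rs P p _ w hw, hwt, rs_rs, ← rs_rs inf_le_left hle', ht, map_zero]
    obtain ⟨m, hm⟩ := (hP B hB gB).1 le_rfl w hw hzero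
    refine ⟨m, ?_⟩
    have h0 := hcls_eq_zero_of_bdy P p _ (hw.gp gB le_rfl m) hm
    have e2 : hcls P p (gp gB le_rfl m w) (hw.gp gB le_rfl m) =
        gp gB le_rfl m (hcls P p w hw) := hcls_smul P p _ _ _
    rw [hres, ← hwt]
    rw [e2] at h0
    convert h0 using 1
    simp only [gp, DistribSMul.toAddMonoidHom_apply, gB]
    rw [ringMap_map_apply]
  choose m hm using key
  let N := Finset.univ.sup m
  have hN : g ^ N • t = 0 := by
    have hcov : V ≤ ⨆ g' : S, X.basicOpen g'.1 := by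
      rw [← SetLike.coe_subset_coe]
      exact ((hV.self_le_iSup_basicOpen_iff).2 ((Ideal.eq_top_iff_one _).2 hS))
    refine QCoh.eq_zero_of_finite_cover (P.homology p) (fun g' : S ↦ X.basicOpen g'.1)
      (fun g' ↦ X.basicOpen_le g'.1) hcov _ fun g' ↦ ?_
    obtain ⟨j, hj⟩ := Nat.exists_eq_add_of_le (Finset.le_sup (f := m) (Finset.mem_univ g'))
    change rs (X.basicOpen_le g'.1) (g ^ N • t) = 0
    have h2 := hm g'
    rw [hres] at h2 ⊢
    rw [show N = j + m g' from hj.trans (add_comm _ _), ← gp_gp, h2, map_zero]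
  refine ⟨N + k, g ^ N • x, coc_smul P p _ hx, ?_⟩
  rw [hcls_smul P p _ x hx, pow_add, mul_smul, ← sub_eq_zero, ← smul_sub]
  exact hN

include hP in
/-- Sections of the homology sheaf on an affine open form the localisation-compatible quotient;
hence the sheaf is quasi-coherent. -/
theorem isQuasicoherent_homology : (P.homology p).IsQuasicoherent := by
  rw [QCoh.isQuasicoherent_iff_smulLift_smulSep]
  intro V hV g
  have hD : IsAffineOpen (X.basicOpen g) := hV.basicOpen g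
  have hle : X.basicOpen g ≤ V ⊓ X.basicOpen g := le_inf (X.basicOpen_le g) le_rfl
  refine ⟨fun s ↦ ?_, fun t ht ↦ ?_⟩
  · obtain ⟨y, hy, rfl⟩ := exists_hcls_eq hP hD s
    obtain ⟨k, z, hz, hb⟩ := (hP V hV g).2 le_rfl (rs inf_le_right y) (hy.rs _)
    refine ⟨k, hcls P p z hz, ?_⟩
    have h := congrArg (rs hle) (hcls_eq_zero_of_bdy P p _
      (((hy.rs _).gp g _ k).sub (hz.rs _)) hb)
    have e2 : hcls P p (gp g (inf_le_left : V ⊓ X.basicOpen g ≤ V) k (rs inf_le_right y))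
        ((hy.rs _).gp g _ k) = gp g inf_le_left k (hcls P p (rs inf_le_right y) (hy.rs _)) :=
      hcls_smul P p _ _ _
    rw [hcls_sub P p _ _ ((hy.rs _).gp g _ k) (hz.rs _), map_sub, map_zero, sub_eq_zero, e2,
      hcls_rs P p _ y hy, hcls_rs P p _ z hz, rs_gp, rs_rs, rs_rs, rs_self] at h
    exact h.symm
  · obtain ⟨z, hz, rfl⟩ := exists_hcls_eq hP hV t
    have hb : Bdy P p (rs (X.basicOpen_le g) z) :=
      bdy_of_hcls_eq_zero hP hD _ (hz.rs _) ((hcls_rs P p _ z hz).trans ht)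
    obtain ⟨k, hk⟩ := (hP V hV g).1 le_rfl z hz (by
      have := hb.rs (W := V ⊓ X.basicOpen g) inf_le_right
      rwa [rs_rs] at this)
    refine ⟨k, ?_⟩
    have h0 := hcls_eq_zero_of_bdy P p _ (hz.gp g le_rfl k) hk
    have e2 : hcls P p (gp g le_rfl k z) (hz.gp g le_rfl k) = gp g le_rfl k (hcls P p z hz) :=
      hcls_smul P p _ _ _
    rw [e2] at h0
    convert h0 using 1
    simp only [gp, DistribSMul.toAddMonoidHom_apply]
    rw [show (homOfLE (le_refl V)).op = 𝟙 (op V) from rfl, X.presheaf.map_id]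
    rfl

end Loc

end GrothLib.Cocyc
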