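import Groth.Agent.Lib.QCoh.ToSheaf
import Groth.Agent.Lib.Cohom.Basic
import Groth.Prelude.Def_Coh
import Mathlib.RingTheory.Finiteness.Basic
import Mathlib.RingTheory.Noetherian.Basic
import Mathlib.Algebra.Homology.DerivedCategory.Ext.ExactSequences

/-!
# The long exact cohomology sequence is linear over the base ring
-/

universe u

open CategoryTheory CategoryTheory.Limits AlgebraicGeometry Abelian Opposite

namespace GrothLib.Cohom

variable {A : Type u} [CommRing A] {X : Scheme.{u}} [X.Over (Spec (CommRingCat.of A))]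

theorem smulAb_naturality {M N : X.Modules} (φ : M ⟶ N) (r : Coh.Γtop X) :
    Coh.smulAb M r ≫ (QCoh.toAbFun X).map φ = (QCoh.toAbFun X).map φ ≫ Coh.smulAb N r := by
  ext U m
  exact (φ.val.app U).hom.map_smul (Coh.resTop X U r) m

variable (A) in
/-- The map on cohomology, linear over the base ring. -/
noncomputable def hhMap {M N : X.Modules} (φ : M ⟶ N) (n : ℕ) :
    Coh.HH X M n →ₗ[A] Coh.HH X N n where
  toFun := Sheaf.H.map ((QCoh.toAbFun X).map φ) n
  map_add' := map_add _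
  map_smul' a x := by
    change Sheaf.H.map _ n (Sheaf.H.map (Coh.smulAb M _) n x) =
      Sheaf.H.map (Coh.smulAb N _) n (Sheaf.H.map _ n x)
    rw [← Sheaf.H.map_comp_apply, ← Sheaf.H.map_comp_apply, smulAb_naturality]
    rfl

theorem hhMap_apply {M N : X.Modules} (φ : M ⟶ N) (n : ℕ) (x : Coh.HH X M n) :
    hhMap A φ n x = Sheaf.H.map ((QCoh.toAbFun X).map φ) n x := rfl

theorem H_map_eq_comp {T : Type u} [TopologicalSpace T] {F G : AbSheaf T} (φ : F ⟶ G) (n : ℕ)
    (x : Sheaf.H F n) :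
    Sheaf.H.map φ n x = Ext.comp (C := AbSheaf T) (show Ext.{u} _ F n from x) (Ext.mk₀ φ) (add_zero n) :=
  rfl

variable {S : ShortComplex X.Modules} (hS : S.ShortExact)

/-- The endomorphism of a sequence given by a global function. -/
noncomputable def smulSeq (r : Coh.Γtop X) :
    S.map (QCoh.toAbFun X) ⟶ S.map (QCoh.toAbFun X) where
  τ₁ := Coh.smulAb S.X₁ r
  τ₂ := Coh.smulAb S.X₂ r
  τ₃ := Coh.smulAb S.X₃ r
  comm₁₂ := smulAb_naturality S.f r
  comm₂₃ := smulAb_naturality S.g r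

variable (A) in
/-- The connecting map, linear over the base ring. -/
noncomputable def hhDelta (n : ℕ) : Coh.HH X S.X₃ n →ₗ[A] Coh.HH X S.X₁ (n + 1) where
  toFun x := Ext.comp (C := AbSheaf X) (show Ext.{u} _ (S.map (QCoh.toAbFun X)).X₃ n from x)
    (QCoh.toAbFun_map_shortExact S hS).extClass rfl
  map_add' x y := Ext.add_comp (C := AbSheaf X) (show Ext.{u} _ (S.map (QCoh.toAbFun X)).X₃ n from x)
    y _ _
  map_smul' a x := by
    have key := (QCoh.toAbFun_map_shortExact S hS).extClass_naturality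
      (QCoh.toAbFun_map_shortExact S hS) (smulSeq (Coh.toGlobal (X ↘ Spec (CommRingCat.of A)) a))
    change (Ext.comp (C := AbSheaf X) (show Ext.{u} _ (S.map (QCoh.toAbFun X)).X₃ n from x)
      (Ext.mk₀ (smulSeq (S := S) (Coh.toGlobal (X ↘ Spec (CommRingCat.of A)) a)).τ₃) (add_zero n)).comp _ _ =
      ((show Ext.{u} _ (S.map (QCoh.toAbFun X)).X₃ n from x).comp _ rfl).comp
        (Ext.mk₀ (smulSeq (S := S) (Coh.toGlobal (X ↘ Spec (CommRingCat.of A)) a)).τ₁) (add_zero _)
    rw [Ext.comp_assoc_of_second_deg_zero, ← key, Ext.comp_assoc_of_third_deg_zero]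

include hS in
theorem exact₂ (n : ℕ) : Function.Exact (hhMap A S.f n) (hhMap A S.g n) := by
  intro x
  constructor
  · intro hx
    obtain ⟨y, hy⟩ := Ext.covariant_sequence_exact₂ _ (QCoh.toAbFun_map_shortExact S hS)
      (show Ext.{u} _ (S.map (QCoh.toAbFun X)).X₂ n from x) hx
    exact ⟨y, hy⟩
  · rintro ⟨y, rfl⟩
    rw [hhMap_apply, hhMap_apply, ← Sheaf.H.map_comp_apply, ← Functor.map_comp, S.zero,
      Functor.map_zero]
    rw [H_map_eq_comp, Ext.mk₀_zero, Ext.comp_zero]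

theorem exact₃ (n : ℕ) : Function.Exact (hhMap A S.g n) (hhDelta A hS n) := by
  intro x
  constructor
  · intro hx
    obtain ⟨y, hy⟩ := Ext.covariant_sequence_exact₃ _ (QCoh.toAbFun_map_shortExact S hS)
      (show Ext.{u} _ (S.map (QCoh.toAbFun X)).X₃ n from x) rfl hx
    exact ⟨y, hy⟩
  · rintro ⟨y, rfl⟩
    change ((show Ext.{u} _ (S.map (QCoh.toAbFun X)).X₂ n from y).comp
      (Ext.mk₀ (S.map (QCoh.toAbFun X)).g) (add_zero n)).comp _ rfl = 0
    rw [Ext.comp_assoc_of_second_deg_zero, ShortComplex.ShortExact.comp_extClass, Ext.comp_zero]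

theorem exact₁ (n : ℕ) : Function.Exact (hhDelta A hS n) (hhMap A S.f (n + 1)) := by
  intro x
  constructor
  · intro hx
    obtain ⟨y, hy⟩ := Ext.covariant_sequence_exact₁ _ (QCoh.toAbFun_map_shortExact S hS)
      (show Ext.{u} _ (S.map (QCoh.toAbFun X)).X₁ (n + 1) from x) hx rfl
    exact ⟨y, hy⟩
  · rintro ⟨y, rfl⟩
    change ((show Ext.{u} _ (S.map (QCoh.toAbFun X)).X₃ n from y).comp
      (QCoh.toAbFun_map_shortExact S hS).extClass rfl).comp
      (Ext.mk₀ (S.map (QCoh.toAbFun X)).f) (add_zero _) = 0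
    rw [Ext.comp_assoc_of_third_deg_zero, ShortComplex.ShortExact.extClass_comp, Ext.comp_zero]

theorem moduleFinite_of_exact {M N P : Type u} [AddCommGroup M] [AddCommGroup N] [AddCommGroup P]
    [Module A M] [Module A N] [Module A P] [IsNoetherianRing A] {f : M →ₗ[A] N} {g : N →ₗ[A] P}
    (h : Function.Exact f g) [Module.Finite A M] [Module.Finite A P] : Module.Finite A N := by
  refine ⟨Submodule.fg_of_fg_map_of_fg_inf_ker g (IsNoetherian.noetherian _) ?_⟩
  rw [top_inf_eq, LinearMap.exact_iff.1 h]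
  exact Submodule.fg_range f

variable [IsNoetherianRing A]

include hS in
theorem finite_X₂ (n : ℕ) [Module.Finite A (Coh.HH X S.X₁ n)] [Module.Finite A (Coh.HH X S.X₃ n)] :
    Module.Finite A (Coh.HH X S.X₂ n) :=
  moduleFinite_of_exact (exact₂ hS n)

include hS in
theorem finite_X₃ (n : ℕ) [Module.Finite A (Coh.HH X S.X₂ n)]
    [Module.Finite A (Coh.HH X S.X₁ (n + 1))] : Module.Finite A (Coh.HH X S.X₃ n) :=
  moduleFinite_of_exact (exact₃ hS n)

include hS in
theorem finite_X₁_succ (n : ℕ) [Module.Finite A (Coh.HH X S.X₃ n)]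
    [Module.Finite A (Coh.HH X S.X₂ (n + 1))] : Module.Finite A (Coh.HH X S.X₁ (n + 1)) :=
  moduleFinite_of_exact (exact₁ hS n)

include hS in
theorem finite_X₁_zero [Module.Finite A (Coh.HH X S.X₂ 0)] : Module.Finite A (Coh.HH X S.X₁ 0) := by
  refine Module.Finite.of_injective (hhMap A S.f 0) ((injective_iff_map_eq_zero _).2 fun x hx ↦ ?_)
  have := (QCoh.toAbFun_map_shortExact S hS).mono_f
  obtain ⟨ψ, hψ⟩ := (Ext.mk₀_bijective _ _).surjective
    (show Ext.{u} _ (S.map (QCoh.toAbFun X)).X₁ 0 from x)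
  have h0 : Ext.mk₀ (ψ ≫ (S.map (QCoh.toAbFun X)).f) = 0 := by
    rw [← Ext.mk₀_comp_mk₀, hψ]; exact hx
  rw [Ext.mk₀_eq_zero_iff] at h0
  exact hψ.symm.trans ((congrArg Ext.mk₀ ((cancel_mono (S.map (QCoh.toAbFun X)).f).1
    (h0.trans zero_comp.symm))).trans (Ext.mk₀_zero _ _))

theorem finite_of_iso {M N : X.Modules} (e : M ≅ N) (n : ℕ) [Module.Finite A (Coh.HH X M n)] :
    Module.Finite A (Coh.HH X N n) :=
  Module.Finite.of_surjective (hhMap A e.hom n) fun y ↦ ⟨hhMap A e.inv n y, by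
    rw [hhMap_apply, hhMap_apply, ← Sheaf.H.map_comp_apply, ← Functor.map_comp, e.inv_hom_id,
      CategoryTheory.Functor.map_id, Sheaf.H.map_id_apply]⟩

omit [IsNoetherianRing A] in
theorem subsingleton_HH_of_isZero {M : X.Modules} (h : IsZero M) (n : ℕ) :
    Subsingleton (Coh.HH X M n) := by
  refine subsingleton_of_forall_eq 0 fun x ↦ ?_
  have := Sheaf.H.map_id_apply (F := Coh.toAb M) (n := n) x
  rw [((QCoh.toAbFun X).map_isZero h).eq_of_src (𝟙 (Coh.toAb M)) 0] at this
  rw [← this, H_map_eq_comp, Ext.mk₀_zero, Ext.comp_zero]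

end GrothLib.Cohom
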