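import Groth.Agent.Lib.Cohom.ModResolution
import Groth.Agent.Lib.Cohom.HomologySections
import Groth.Agent.Lib.QCoh.FT
import Groth.Agent.Lib.QCoh.Abelian
import Groth.Agent.Lib.ProjCoh.Finite
import Mathlib.CategoryTheory.Abelian.RightDerived

/-!
# Higher direct images of modules
-/

set_option backward.isDefEq.respectTransparency false

universe u

open CategoryTheory CategoryTheory.Limits Opposite TopologicalSpace AlgebraicGeometry Abelian

namespace GrothLib.Cohom

variable {X S : Scheme.{u}} (f : X ⟶ S)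

/-- The complex of direct images. -/
noncomputable abbrev pushCx (K : CochainComplex X.Modules ℕ) : CochainComplex S.Modules ℕ :=
  ((Scheme.Modules.pushforward f).mapHomologicalComplex _).obj K

theorem pushCx_coc_iff (K : CochainComplex X.Modules ℕ) (p : ℕ) {V : S.Opens}
    (z : Γ(K.X p, f ⁻¹ᵁ V)) :
    Cocyc.Coc (pushCx f K) p (W := V) z ↔ Cocyc.Coc K p z := Iff.rfl

theorem pushCx_bdy_iff (K : CochainComplex X.Modules ℕ) (p : ℕ) {V : S.Opens}
    (z : Γ(K.X p, f ⁻¹ᵁ V)) :
    Cocyc.Bdy (pushCx f K) p (W := V) z ↔ Cocyc.Bdy K p z := Iff.rfl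

theorem pushCx_gp (N : X.Modules) {U : S.Opens} (g : Γ(S, U)) {W : S.Opens} (hW : W ≤ U)
    (k : ℕ) (z : Γ(N, f ⁻¹ᵁ W)) :
    Cocyc.gp g (N := (Scheme.Modules.pushforward f).obj N) hW k z =
      Cocyc.gp (f.app U g) (N := N) (f.preimage_mono hW) k z := by
  have h := (ConcreteCategory.congr_hom (f.naturality (homOfLE hW).op) g)
  refine (QCoh.pushforward_smul f N ((S.presheaf.map (homOfLE hW).op g) ^ k) z).trans ?_
  simp only [Cocyc.gp, DistribSMul.toAddMonoidHom_apply]
  rw [map_pow, show f.app W (S.presheaf.map (homOfLE hW).op g) = _ from h]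
  rfl

/-- Cohomology of preimages of affine opens localises. -/
theorem localises_pushCx [QuasiCompact f] [QuasiSeparated f] {M : X.Modules} [M.IsQuasicoherent]
    (I : FlRes M) (p : ℕ) : Cocyc.Localises (pushCx f I.cocomplex) p := by
  intro V hV g
  have hgood := Cocyc.good_of_isCompact (f.app V g) (resolves I)
    (f.isQuasiSeparated_preimage hV.isQuasiSeparated) le_rfl (f.isCompact_preimage hV.isCompact) p
  have hb : X.basicOpen (f.app V g) = f ⁻¹ᵁ S.basicOpen g := (Scheme.preimage_basicOpen f g).symm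
  have h1 : f ⁻¹ᵁ V ⊓ X.basicOpen (f.app V g) ≤ f ⁻¹ᵁ (V ⊓ S.basicOpen g) := by rw [hb]; rfl
  have h2 : f ⁻¹ᵁ (V ⊓ S.basicOpen g) ≤ f ⁻¹ᵁ V ⊓ X.basicOpen (f.app V g) := by rw [hb]; rfl
  constructor
  · intro hW z hz hbd
    obtain ⟨k, hk⟩ := hgood.1 le_rfl z hz (by
      have h := Cocyc.Bdy.rs (K := I.cocomplex)
        (z := Cocyc.rs (f.preimage_mono (inf_le_left : V ⊓ S.basicOpen g ≤ V))
          (show Γ(I.cocomplex.X p, f ⁻¹ᵁ V) from z)) hbd h1
      rwa [Cocyc.rs_rs] at h)
    exact ⟨k, (congrArg (Cocyc.Bdy I.cocomplex p) (pushCx_gp f _ g hW k z)).mpr hk⟩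
  · intro hW y hy
    obtain ⟨k, z, hz, hb'⟩ := hgood.2 le_rfl
      (Cocyc.rs h1 (show Γ(I.cocomplex.X p, f ⁻¹ᵁ (V ⊓ S.basicOpen g)) from y))
      (Cocyc.Coc.rs (K := I.cocomplex)
        (z := (show Γ(I.cocomplex.X p, f ⁻¹ᵁ (V ⊓ S.basicOpen g)) from y)) hy h1)
    refine ⟨k, z, hz, ?_⟩
    have h := hb'.rs h2
    rw [map_sub, Cocyc.rs_gp, Cocyc.rs_rs, Cocyc.rs_self, Cocyc.rs_rs] at h
    rw [pushCx_bdy_iff f]
    convert h using 1
    exact congrArg₂ (· - ·) (pushCx_gp f _ g _ k y) rfl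

theorem isCoh_restrict {U : Scheme.{u}} (M : X.Modules) (hM : Coh.IsCoh M) (j : U ⟶ X)
    [IsOpenImmersion j] : Coh.IsCoh (M.restrict j) := by
  have := hM.1
  have : (M.restrict j).IsQuasicoherent := inferInstance
  refine ⟨this, (QCoh.isFiniteType_iff_moduleFinite _).2 fun W hW ↦ ?_⟩
  obtain ⟨T, hT⟩ := (QCoh.moduleFinite_of_isFiniteType M hM.2 (hW.image_of_isOpenImmersion j)).fg_top
  classical
  refine ⟨⟨T.image fun t ↦ (show Γ(M.restrict j, W) from t), top_le_iff.1 fun x _ ↦ ?_⟩⟩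
  suffices ∀ t ∈ Submodule.span Γ(X, j ''ᵁ W) (T : Set Γ(M, j ''ᵁ W)),
      (show Γ(M.restrict j, W) from t) ∈ Submodule.span Γ(U, W)
        ((T.image fun t ↦ (show Γ(M.restrict j, W) from t) : Finset _) : Set _) from
    this x (hT.ge trivial)
  intro t ht
  induction ht using Submodule.span_induction with
  | mem y hy => exact Submodule.subset_span (Finset.mem_image_of_mem _ hy)
  | zero => exact zero_mem _
  | add y z _ _ hy hz => exact add_mem hy hz
  | smul r y _ hy =>
    have e : (show Γ(M.restrict j, W) from r • y) =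
        (j.appIso W).hom r • (show Γ(M.restrict j, W) from y) := by
      change r • y = (j.appIso W).inv ((j.appIso W).hom r) • y
      rw [Iso.hom_inv_id_apply]
    exact e.symm ▸ Submodule.smul_mem _ _ hy

variable [HasInjectiveResolutions X.Modules]

/-- `R^p f_*` is the homology of the direct image of an injective resolution. -/
noncomputable def rpushIso (M : X.Modules) (p : ℕ) :
    (Coh.Rpush f p).obj M ≅ (pushCx f (injectiveResolution M).cocomplex).homology p :=
  (injectiveResolution M).isoRightDerivedObj (Scheme.Modules.pushforward f) p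

theorem isQuasicoherent_Rpush [QuasiCompact f] [QuasiSeparated f] (M : X.Modules) [M.IsQuasicoherent]
    (p : ℕ) : ((Coh.Rpush f p).obj M).IsQuasicoherent :=
  (SheafOfModules.isQuasicoherent S.ringCatSheaf).prop_of_iso (rpushIso f M p).symm
    (Cocyc.isQuasicoherent_homology (localises_pushCx f (.ofInjective (injectiveResolution M)) p))

section Restrict

variable {U : Scheme.{u}} (j : U ⟶ X) [IsOpenImmersion j]

omit [HasInjectiveResolutions X.Modules] in
/-- Restriction of a flasque resolution to an open subscheme. -/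
noncomputable def FlRes.restrict {M : X.Modules} (I : FlRes M) : FlRes (M.restrict j) where
  cocomplex := ((Scheme.Modules.restrictFunctor j).mapHomologicalComplex _).obj I.cocomplex
  ι := (Scheme.Modules.restrictFunctor j).map I.ι
  ι_d := ((Scheme.Modules.restrictFunctor j).map_comp _ _).symm.trans
    ((congrArg _ I.ι_d).trans ((Scheme.Modules.restrictFunctor j).map_zero _ _))
  isKernel := KernelFork.mapIsLimit _ I.isKernel (Scheme.Modules.restrictFunctor j)
  exact_succ n := (I.exact_succ n).map (Scheme.Modules.restrictFunctor j)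
  flasque n {_ _} h := I.flasque n (Scheme.Hom.image_mono j h)

end Restrict

omit [HasInjectiveResolutions X.Modules] in
/-- On a proper scheme over a Noetherian ring, finitely many cocycles generate modulo coboundaries. -/
theorem exists_cocycle_span (A : Type u) [CommRing A] [IsNoetherianRing A]
    [X.Over (Spec (CommRingCat.of A))] [IsProper (X ↘ Spec (CommRingCat.of A))]
    {M : X.Modules} (hM : Coh.IsCoh M) (I : FlRes M) (p : ℕ) :
    ∃ T : Finset (cocycles I p ⊤), ∀ (P : cocycles I p ⊤ → Prop), (∀ t ∈ T, P t) →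
      (∀ z : cocycles I p ⊤, Cocyc.Bdy I.cocomplex p z.1 → P z) →
      (∀ z z', P z → P z' → P (z + z')) →
      (∀ (a : A) (z : cocycles I p ⊤) (h : (show Γ(X, ⊤) from Coh.toGlobal (X ↘ Spec (CommRingCat.of A)) a)
        • z.1 ∈ cocycles I p ⊤), P z → P ⟨_, h⟩) →
      ∀ z, P z := by
  classical
  have := hM.1
  obtain ⟨s, hs⟩ := (ProjCoh.moduleFinite_HH A M hM p).fg_top
  let E : cocycles I p ⊤ →+ Coh.HH X M p :=
    (HEquivTop (Coh.toAb M) p).symm.toAddMonoidHom.comp (cocClass I p ⊤)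
  have hE : Function.Surjective E :=
    (HEquivTop (Coh.toAb M) p).symm.surjective.comp (cocClass_surjective I p ⊤)
  have hsmul : ∀ (a : A) (z : cocycles I p ⊤) (h), E ⟨(show Γ(X, ⊤) from
      Coh.toGlobal (X ↘ Spec (CommRingCat.of A)) a) • z.1, h⟩ = a • E z := by
    intro a z h
    apply (HEquivTop (Coh.toAb M) p).injective
    refine ((HEquivTop (Coh.toAb M) p).apply_symm_apply _).trans ?_
    set r : Γ(X, ⊤) := Coh.toGlobal (X ↘ Spec (CommRingCat.of A)) a
    have e : (X.presheaf.map (homOfLE (le_top : (⊤ : X.Opens) ≤ ⊤)).op r : Γ(X, ⊤)) = r := by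
      rw [show (homOfLE (le_top : (⊤ : X.Opens) ≤ ⊤)).op = 𝟙 (op (⊤ : X.Opens)) from rfl,
        X.presheaf.map_id]
      rfl
    have h' : X.presheaf.map (homOfLE (le_top : (⊤ : X.Opens) ≤ ⊤)).op r • z.1 ∈ cocycles I p ⊤ := by
      rw [e]; exact h
    have hc := cocClass_smul I p ⊤ r z h'
    rw [show (⟨_, h'⟩ : cocycles I p ⊤) = ⟨r • z.1, h⟩ from Subtype.ext (by simp only [e])] at hc
    refine hc.trans ?_
    have hz : cocClass I p ⊤ z = HEquivTop (Coh.toAb M) p (E z) :=
      ((HEquivTop (Coh.toAb M) p).apply_symm_apply _).symm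
    rw [hz]
    exact Ext.comp_assoc_of_third_deg_zero (C := AbSheaf X) (Ext.mk₀ freeTopIso.hom)
      (show Ext.{u} _ (Coh.toAb M) p from E z) (Ext.mk₀ (Coh.smulAb M r)) (zero_add p)
  refine ⟨s.image (Function.surjInv hE), fun P hT hb hadd hmul z ↦ ?_⟩
  suffices ∀ c ∈ Submodule.span A (s : Set (Coh.HH X M p)), ∀ z, E z = c → P z from
    this (E z) (hs.ge trivial) z rfl
  have hmod : ∀ z z', E z = E z' → P z' → P z := by
    intro z z' h hP
    have h0 : cocClass I p ⊤ (z - z') = 0 :=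
      (HEquivTop (Coh.toAb M) p).symm.injective ((show E (z - z') = 0 by rw [map_sub, h, sub_self]).trans
        (map_zero _).symm)
    simpa using hadd _ _ (hb _ ((cocClass_eq_zero_iff I p ⊤ _).1 h0)) hP
  intro c hc
  induction hc using Submodule.span_induction with
  | mem c hc =>
    exact fun z hz ↦ hmod z _ (hz.trans (Function.surjInv_eq hE c).symm)
      (hT _ (Finset.mem_image_of_mem _ hc))
  | zero => exact fun z hz ↦ hmod z 0 (hz.trans (map_zero E).symm) (hb 0 ⟨0, map_zero _⟩)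
  | add c c' _ _ h h' =>
    obtain ⟨y, rfl⟩ := hE c
    obtain ⟨y', rfl⟩ := hE c'
    exact fun z hz ↦ hmod z _ (hz.trans (map_add E y y').symm) (hadd _ _ (h y rfl) (h' y' rfl))
  | smul a c _ h =>
    obtain ⟨y, rfl⟩ := hE c
    intro z hz
    have hy : (show Γ(X, ⊤) from Coh.toGlobal (X ↘ Spec (CommRingCat.of A)) a) • y.1 ∈
        cocycles I p ⊤ := Cocyc.coc_smul _ p _ y.2
    exact hmod z _ (hz.trans (hsmul a y hy).symm) (hmul a y hy (h y rfl))

/-- Higher direct images of coherent modules under proper morphisms are coherent. -/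
theorem isCoh_Rpush [IsProper f] [IsLocallyNoetherian S] (M : X.Modules) (hM : Coh.IsCoh M) (p : ℕ) :
    Coh.IsCoh ((Coh.Rpush f p).obj M) := by
  have := hM.1
  have hqc := isQuasicoherent_Rpush f M p
  refine ⟨hqc, (QCoh.isFiniteType_iff_moduleFinite _).2 fun V hV ↦ ?_⟩
  set I : FlRes M := .ofInjective (injectiveResolution M)
  set N := (pushCx f I.cocomplex).homology p
  suffices hfin : Module.Finite Γ(S, V) Γ(N, V) by
    have : Module.Finite Γ(S, V) Γ((pushCx f (injectiveResolution M).cocomplex).homology p, V) := hfin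
    refine Module.Finite.of_surjective (QCoh.appLinear (rpushIso f M p).inv V) fun t ↦
      ⟨(rpushIso f M p).hom.app V t, ?_⟩
    change (rpushIso f M p).inv.app V ((rpushIso f M p).hom.app V t) = t
    rw [← ConcreteCategory.comp_apply, ← Scheme.Modules.Hom.comp_app, Iso.hom_inv_id]
    exact ConcreteCategory.id_apply t
  have := IsLocallyNoetherian.component_noetherian ⟨V, hV⟩
  let X' : Scheme.{u} := (f ⁻¹ᵁ V : X.Opens)
  let j : X' ⟶ X := (f ⁻¹ᵁ V).ι
  let g₀ : X' ⟶ Spec (CommRingCat.of Γ(S, V)) := (f ∣_ V) ≫ hV.isoSpec.hom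
  letI : X'.Over (Spec (CommRingCat.of Γ(S, V))) := ⟨g₀⟩
  have : IsProper (f ∣_ V) := IsZariskiLocalAtTarget.restrict ‹IsProper f› V
  have : IsProper (X' ↘ Spec (CommRingCat.of Γ(S, V))) :=
    inferInstanceAs (IsProper ((f ∣_ V) ≫ hV.isoSpec.hom))
  have hMj : Coh.IsCoh (M.restrict j) := isCoh_restrict M hM j
  obtain ⟨T, hT⟩ := exists_cocycle_span (X := X') Γ(S, V) hMj (I.restrict j) p
  have hW : j ''ᵁ (⊤ : X'.Opens) = f ⁻¹ᵁ V := by simp [j, X']
  let emb : Γ((I.restrict j).cocomplex.X p, (⊤ : X'.Opens)) →+ Γ(I.cocomplex.X p, f ⁻¹ᵁ V) :=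
    (Cocyc.rs hW.ge : Γ(I.cocomplex.X p, j ''ᵁ ⊤) →+ _)
  have hemb : ∀ w : cocycles (I.restrict j) p (⊤ : X'.Opens),
      Cocyc.Coc (pushCx f I.cocomplex) p (W := V) (emb w.1) := fun w ↦
    Cocyc.Coc.rs (K := I.cocomplex) (z := (show Γ(I.cocomplex.X p, j ''ᵁ ⊤) from w.1)) w.2 hW.ge
  let toV : cocycles (I.restrict j) p (⊤ : X'.Opens) → Γ(N, V) := fun w ↦
    Cocyc.hcls (pushCx f I.cocomplex) p (V := V) (emb w.1) (hemb w)
  classical
  refine ⟨⟨T.image toV, top_le_iff.1 fun t _ ↦ ?_⟩⟩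
  obtain ⟨z, hz, rfl⟩ := Cocyc.exists_hcls_eq (localises_pushCx f I p) hV t
  suffices ∀ w, toV w ∈ Submodule.span Γ(S, V) ((T.image toV : Finset _) : Set Γ(N, V)) by
    have h := this ⟨Cocyc.rs hW.le (show Γ(I.cocomplex.X p, f ⁻¹ᵁ V) from z),
      Cocyc.Coc.rs (K := I.cocomplex) (z := (show Γ(I.cocomplex.X p, f ⁻¹ᵁ V) from z)) hz hW.le⟩
    have e : emb (Cocyc.rs hW.le (show Γ(I.cocomplex.X p, f ⁻¹ᵁ V) from z)) = z :=
      (Cocyc.rs_rs hW.le hW.ge _).trans (Cocyc.rs_self _ _)
    simp only [toV, e] at h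
    exact h
  refine hT _ (fun w hw ↦ Submodule.subset_span (Finset.mem_image_of_mem toV hw))
    (fun w hw ↦ ?_) (fun w w' h h' ↦ ?_) (fun a w hw h ↦ ?_)
  · have h0 : toV w = 0 := Cocyc.hcls_eq_zero_of_bdy (pushCx f I.cocomplex) p (V := V) _ (hemb w)
      (Cocyc.Bdy.rs (K := I.cocomplex) (z := (show Γ(I.cocomplex.X p, j ''ᵁ ⊤) from w.1)) hw hW.ge)
    exact h0 ▸ zero_mem _
  · have e : toV (w + w') = toV w + toV w' := by
      refine Eq.trans ?_ (Cocyc.hcls_add (pushCx f I.cocomplex) p (V := V) _ _ (hemb w) (hemb w'))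
      simp only [toV, AddSubgroup.coe_add, map_add]
    exact e ▸ add_mem h h'
  · convert Submodule.smul_mem _ (show Γ(S, V) from a) h
    refine Eq.trans ?_ (Cocyc.hcls_smul (pushCx f I.cocomplex) p (V := V) a (emb w.1) (hemb w))
    simp only [toV]
    congr 1
    change Cocyc.rs hW.ge (((j.appIso ⊤).inv (show Γ(X', ⊤) from Coh.toGlobal g₀ a)) •
      (show Γ(I.cocomplex.X p, j ''ᵁ ⊤) from w.1)) = f.app V a • _
    rw [Cocyc.rs]
    erw [Scheme.Modules.map_smul]
    congr 1
    have e : Coh.toGlobal g₀ a =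
        (f ∣_ V).appTop (hV.isoSpec.hom.appTop ((Scheme.ΓSpecIso Γ(S, V)).inv a)) := by
      simp only [Coh.toGlobal, g₀, Scheme.Hom.comp_appTop]
      rfl
    rw [e, hV.isoSpec_hom_appTop, ConcreteCategory.comp_apply, Iso.inv_hom_id_apply,
      morphismRestrict_appTop, Scheme.Opens.ι_appIso, Scheme.Opens.topIso_inv]
    change X.presheaf.map _ (X.presheaf.map _ (f.app _ (S.presheaf.map _ a))) = f.app V a
    rw [← ConcreteCategory.comp_apply (S.presheaf.map _), f.naturality]
    simp only [ConcreteCategory.comp_apply]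
    rw [← ConcreteCategory.comp_apply, ← ConcreteCategory.comp_apply, ← Functor.map_comp,
      ← Functor.map_comp]
    convert ConcreteCategory.id_apply (f.app V a)
    exact X.presheaf.map_id _

end GrothLib.Cohom
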