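import Groth.Agent.Lib.Cohom.Affine
import Groth.Agent.Lib.QCoh.Qcqs
import Mathlib.AlgebraicGeometry.Morphisms.QuasiSeparated
import Mathlib.AlgebraicGeometry.Morphisms.Affine

/-!
# Vanishing of cohomology of quasi-coherent modules above the number of affines
-/

universe u

open CategoryTheory CategoryTheory.Limits Opposite TopologicalSpace AlgebraicGeometry Abelian

namespace GrothLib.Cohom

/-- Vanishing in degrees `≥ d` of the cohomology of a sheaf on an open. -/
def VanishFrom {T : Type u} [TopologicalSpace T] (F : AbSheaf T) (U : Opens T) (d : ℕ) : Prop :=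
  ∀ n, d ≤ n → Subsingleton (Ext.{u} (freeFun.obj U) F n)

theorem vanishFrom_bot {T : Type u} [TopologicalSpace T] (F : AbSheaf T) (d : ℕ) :
    VanishFrom F ⊥ d := fun n _ ↦ subsingleton_ext_freeFun_bot F n

theorem VanishFrom.mono {T : Type u} [TopologicalSpace T] {F : AbSheaf T} {U : Opens T} {d e : ℕ}
    (h : VanishFrom F U d) (hde : d ≤ e) : VanishFrom F U e := fun n hn ↦ h n (hde.trans hn)

/-- The Mayer-Vietoris step. -/
theorem VanishFrom.sup {T : Type u} [TopologicalSpace T] {F : AbSheaf T} {V W : Opens T} {d e : ℕ}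
    (hV : VanishFrom F V (d + 1)) (hW : VanishFrom F W (d + 1)) (h : VanishFrom F (V ⊓ W) e)
    (he : e ≤ d) : VanishFrom F (V ⊔ W) (d + 1) := by
  intro n hn
  obtain ⟨m, rfl⟩ := Nat.exists_eq_succ_of_ne_zero (by omega : n ≠ 0)
  have := h m (by omega)
  have := hV (m + 1) hn
  have := hW (m + 1) hn
  exact subsingleton_of_forall_eq 0 fun x ↦ eq_zero_of_res_eq_zero F m rfl
    (fun y ↦ ⟨0, 0, Subsingleton.elim _ _⟩) x (Subsingleton.elim _ _) (Subsingleton.elim _ _)

variable {X : Scheme.{u}} (M : X.Modules) [M.IsQuasicoherent]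

theorem vanishFrom_affine {U : X.Opens} (hU : IsAffineOpen U) :
    VanishFrom (Coh.toAb M) U 1 := fun n hn ↦ by
  obtain ⟨m, rfl⟩ := Nat.exists_eq_succ_of_ne_zero (by omega : n ≠ 0)
  exact subsingleton_ext_freeFun_of_isAffineOpen hU M m

/-- Vanishing above the number of affines for a family stable under intersections. -/
theorem vanishFrom_iSup (𝒮 : X.Opens → Prop) (haff : ∀ U, 𝒮 U → IsAffineOpen U)
    (hinf : ∀ U V, 𝒮 U → 𝒮 V → 𝒮 (U ⊓ V)) (t : ℕ) (U : Fin t → X.Opens) (hU : ∀ i, 𝒮 (U i)) :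
    VanishFrom (Coh.toAb M) (⨆ i, U i) t := by
  induction t with
  | zero => rw [iSup_of_empty]; exact vanishFrom_bot _ _
  | succ t ih =>
    have hsplit : (⨆ i, U i) = (⨆ i : Fin t, U i.succ) ⊔ U 0 := by
      refine le_antisymm (iSup_le fun i ↦ ?_) (sup_le (iSup_le fun i ↦ le_iSup U _) (le_iSup U 0))
      cases i using Fin.cases with
      | zero => exact le_sup_right
      | succ i => exact (le_iSup (fun i : Fin t ↦ U i.succ) i).trans le_sup_left
    have h := ih (fun i ↦ U i.succ ⊓ U 0) fun i ↦ hinf _ _ (hU _) (hU _)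
    rw [← iSup_inf_eq] at h
    rw [hsplit]
    exact ((ih _ fun i ↦ hU i.succ).mono (by omega)).sup
      ((vanishFrom_affine M (haff _ (hU 0))).mono (by omega)) h le_rfl

theorem exists_vanishFrom_of_le_affine {B : X.Opens} (hB : IsAffineOpen B) {V : X.Opens}
    (hVB : V ≤ B) (hV : IsCompact (V : Set X)) :
    ∃ d, ∀ (N : X.Modules) [N.IsQuasicoherent], VanishFrom (Coh.toAb N) V d := by
  obtain ⟨ι, _, U, hUA, hUV, hVU⟩ := QCoh.exists_finite_affine_cover hV
  refine ⟨Fintype.card ι, fun N _ ↦ ?_⟩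
  have hinf (U₁ U₂ : X.Opens) (h₁ : IsAffineOpen U₁ ∧ U₁ ≤ B) (h₂ : IsAffineOpen U₂ ∧ U₂ ≤ B) :
      IsAffineOpen (U₁ ⊓ U₂) ∧ U₁ ⊓ U₂ ≤ B := by
    refine ⟨?_, inf_le_left.trans h₁.2⟩
    have : IsAffine B := hB
    have e : ∀ W : X.Opens, W ≤ B → B.ι ''ᵁ (B.ι ⁻¹ᵁ W) = W := fun W hW ↦ by
      rw [Scheme.Hom.image_preimage_eq_opensRange_inf, Scheme.Opens.opensRange_ι, inf_eq_right.2 hW]
    rw [← e (U₁ ⊓ U₂) (inf_le_left.trans h₁.2), Scheme.Hom.preimage_inf]
    refine IsAffineOpen.image_of_isOpenImmersion (IsAffineOpen.inf ?_ ?_) _ <;>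
      rw [← Scheme.Hom.isAffineOpen_iff_of_isOpenImmersion B.ι, e _ (by first | exact h₁.2 | exact h₂.2)]
    exacts [h₁.1, h₂.1]
  let e := (Fintype.equivFin ι).symm
  have h := vanishFrom_iSup N (fun W ↦ IsAffineOpen W ∧ W ≤ B) (fun _ h ↦ h.1) hinf _ (U ∘ e)
    fun i ↦ ⟨hUA _, (hUV _).trans hVB⟩
  rwa [show (⨆ i, (U ∘ e) i) = V from (e.iSup_comp (g := U)).trans
    (le_antisymm (iSup_le hUV) hVU)] at h

/-- Uniform vanishing on quasi-compact opens of a quasi-separated scheme. -/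
theorem exists_vanishFrom_of_isCompact [QuasiSeparatedSpace X] {V : X.Opens}
    (hV : IsCompact (V : Set X)) :
    ∃ d, ∀ (N : X.Modules) [N.IsQuasicoherent], VanishFrom (Coh.toAb N) V d := by
  refine compact_open_induction_on V hV ⟨0, fun N _ ↦ vanishFrom_bot _ _⟩
    fun S hS U ⟨d, hd⟩ ↦ ?_
  obtain ⟨e, he⟩ := exists_vanishFrom_of_le_affine U.2 (inf_le_right : S ⊓ U.1 ≤ U.1)
    (QuasiSeparatedSpace.inter_isCompact _ _ S.isOpen hS U.1.isOpen U.2.isCompact)
  exact ⟨max d e + 1, fun N _ ↦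
    ((hd N).mono (by omega)).sup ((vanishFrom_affine N U.2).mono (by omega)) (he N)
      (le_max_right d e)⟩

/-- From vanishing on `⊤` to vanishing of `Coh.HH`. -/
theorem VanishFrom.subsingleton_HH {N : X.Modules} {d n : ℕ}
    (h : VanishFrom (Coh.toAb N) ⊤ d) (hn : d ≤ n) : Subsingleton (Coh.HH X N n) :=
  @Equiv.subsingleton _ _ (HEquivTop (Coh.toAb N) n).toEquiv (h n hn)

end GrothLib.Cohom
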