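import Groth.Agent.Lib.Cohom.OpenCompare
import Groth.Agent.Lib.Cohom.Vanishing
import Mathlib.AlgebraicGeometry.Morphisms.Affine

/-!
# Cohomology of modules along affine morphisms and open immersions
-/

universe u

open CategoryTheory CategoryTheory.Limits Opposite TopologicalSpace AlgebraicGeometry Abelian

namespace GrothLib.Cohom

variable {X S : Scheme.{u}}

/-- A quasi-coherent module is acyclic on preimages of affines under an affine morphism. -/
theorem acyclicOn_of_isAffineHom (f : X ⟶ S) [IsAffineHom f] (M : X.Modules) [M.IsQuasicoherent] :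
    AcyclicOn f.base S.affineOpens (Coh.toAb M) :=
  fun _ hW n ↦ subsingleton_ext_freeFun_of_isAffineOpen (IsAffineOpen.preimage hW f) M n

/-- `H^n(f⁻¹V, M) = H^n(V, f_* M)` for affine `f`. -/
theorem nonempty_ext_preimage_equiv (f : X ⟶ S) [IsAffineHom f] (M : X.Modules) [M.IsQuasicoherent]
    (V : S.Opens) (n : ℕ) :
    Nonempty (Ext.{u} (freeFun.obj (f ⁻¹ᵁ V)) (Coh.toAb M) n ≃+
      Ext.{u} (freeFun.obj V) (Coh.toAb ((Scheme.Modules.pushforward f).obj M)) n) := by
  obtain ⟨c⟩ := nonempty_comparison_pushFun f.base (S.isBasis_affineOpens) V n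
  exact ⟨c.equiv (Coh.toAb M) (acyclicOn_of_isAffineHom f M)⟩

/-- `H^n(X, M) = H^n(S, f_* M)` for affine `f`. -/
theorem nonempty_HH_equiv_pushforward (f : X ⟶ S) [IsAffineHom f] (M : X.Modules)
    [M.IsQuasicoherent] (n : ℕ) :
    Nonempty (Coh.HH X M n ≃+ Coh.HH S ((Scheme.Modules.pushforward f).obj M) n) := by
  obtain ⟨e⟩ := nonempty_ext_preimage_equiv f M ⊤ n
  exact ⟨(HEquivTop _ n).trans (e.trans (HEquivTop _ n).symm)⟩

/-- The cohomology of a restriction along an open immersion. -/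
theorem nonempty_ext_image_equiv (j : X ⟶ S) [IsOpenImmersion j] (M : S.Modules) (V : X.Opens)
    (n : ℕ) :
    Nonempty (Ext.{u} (freeFun.obj (j ''ᵁ V)) (Coh.toAb M) n ≃+
      Ext.{u} (freeFun.obj V) (Coh.toAb (M.restrict j)) n) := by
  obtain ⟨c⟩ := nonempty_comparison_restrFun (Scheme.Hom.isOpenEmbedding j) V n
  exact ⟨c.equiv (Coh.toAb M) trivial⟩

/-- `H^n(U, M|_U)` is the cohomology of `M` on the open `U`. -/
theorem nonempty_HHon_equiv (M : S.Modules) (U : S.Opens) (n : ℕ) :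
    Nonempty (Coh.HHon S M U n ≃+ Ext.{u} (freeFun.obj U) (Coh.toAb M) n) := by
  obtain ⟨e⟩ := nonempty_ext_image_equiv U.ι M ⊤ n
  have h : U.ι ''ᵁ ⊤ = U := by simp
  rw [h] at e
  exact ⟨(HEquivTop _ n).trans e.symm⟩

end GrothLib.Cohom
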