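import Mathlib.CategoryTheory.Abelian.RightDerived

/-!
# Acyclicity for right derived functors from a class of objects
-/

universe v v' w w'

open CategoryTheory CategoryTheory.Limits

namespace GrothLib.DimShift

variable {C : Type w} [Category.{v} C] [Abelian C] [HasInjectiveResolutions C]
  {D : Type w'} [Category.{v'} D] [Abelian D]

/-- The short complex `ker dⁿ → Xⁿ → ker dⁿ⁺¹` of a cochain complex. -/
noncomputable abbrev cyclesSC (K : CochainComplex C ℕ) (n : ℕ) : ShortComplex C :=
  ShortComplex.mk (kernel.ι (K.d n (n + 1)))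
    (kernel.lift (K.d (n + 1) (n + 2)) (K.d n (n + 1)) (K.d_comp_d _ _ _))
    (by ext; simp)

omit [HasInjectiveResolutions C] in
theorem cyclesSC_shortExact (K : CochainComplex C ℕ) (n : ℕ)
    (h : (ShortComplex.mk _ _ (K.d_comp_d n (n + 1) (n + 2))).Exact) :
    (cyclesSC K n).ShortExact := by
  have : Epi (cyclesSC K n).g := h.epi_kernelLift
  exact
    { exact := ShortComplex.exact_of_f_is_kernel _ (KernelFork.IsLimit.ofι _ _
        (fun k hk ↦ kernel.lift _ k (by
          have := hk =≫ kernel.ι _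
          simpa [cyclesSC] using this))
        (fun k hk ↦ kernel.lift_ι _ _ _)
        (fun k hk m hm ↦ by ext; simp [hm])) }

/-- Right derived functors vanish on a class stable under cokernels into injectives on which the
functor is exact. -/
theorem isZero_rightDerived_of_class (G : C ⥤ D) [G.Additive] (P : C → Prop)
    (hiso : ∀ {F F' : C}, (F ≅ F') → P F → P F')
    (hP : ∀ S : ShortComplex C, S.ShortExact → Injective S.X₂ → P S.X₁ →
      P S.X₃ ∧ (S.map G).ShortExact)
    (F : C) (hF : P F) (n : ℕ) : IsZero ((G.rightDerived (n + 1)).obj F) := by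
  let I := injectiveResolution F
  let K := I.cocomplex
  have hse (m : ℕ) : (cyclesSC K m).ShortExact := cyclesSC_shortExact K m (I.exact_succ m)
  have hZ (m : ℕ) : P (cyclesSC K m).X₁ := by
    induction m with
    | zero => exact hiso (I.isLimitKernelFork.conePointUniqueUpToIso (limit.isLimit _)) hF
    | succ m ih => exact (hP _ (hse m) (I.injective m) ih).1
  have hG (m : ℕ) : ((cyclesSC K m).map G).ShortExact := (hP _ (hse m) (I.injective m) (hZ m)).2
  refine IsZero.of_iso ?_ (I.isoRightDerivedObj G (n + 1))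
  refine (HomologicalComplex.exactAt_iff_isZero_homology _ _).1 ?_
  rw [HomologicalComplex.exactAt_iff' _ n (n + 1) (n + 2) (by simp) (by simp)]
  have := (hG n).epi_g
  have := (hG (n + 2)).mono_f
  let T : ShortComplex D := ShortComplex.mk (G.map (K.d n (n + 1)))
    (G.map (cyclesSC K (n + 1)).g) (by
      rw [← kernel.lift_ι (K.d (n + 1) (n + 2)) (K.d n (n + 1)) (K.d_comp_d _ _ _),
        G.map_comp, Category.assoc, ← G.map_comp, (cyclesSC K (n + 1)).zero, G.map_zero, comp_zero])
  let φ : T ⟶ (cyclesSC K (n + 1)).map G :=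
    { τ₁ := G.map (cyclesSC K n).g
      τ₂ := 𝟙 _
      τ₃ := 𝟙 _
      comm₁₂ := (G.map_comp _ _).symm.trans
        ((congrArg G.map (kernel.lift_ι _ _ _)).trans (Category.comp_id _).symm)
      comm₂₃ := (Category.id_comp _).trans (Category.comp_id _).symm }
  let ψ : T ⟶ ((G.mapHomologicalComplex _).obj K).sc' n (n + 1) (n + 2) :=
    { τ₁ := 𝟙 _
      τ₂ := 𝟙 _
      τ₃ := G.map (cyclesSC K (n + 2)).f
      comm₁₂ := (Category.id_comp _).trans (Category.comp_id _).symm
      comm₂₃ := (Category.id_comp _).trans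
        ((congrArg G.map (kernel.lift_ι _ _ _)).symm.trans (G.map_comp _ _)) }
  have : Epi φ.τ₁ := ‹Epi ((cyclesSC K n).map G).g›
  have : IsIso φ.τ₂ := inferInstanceAs (IsIso (𝟙 _))
  have : Mono φ.τ₃ := inferInstanceAs (Mono (𝟙 _))
  have : Epi ψ.τ₁ := inferInstanceAs (Epi (𝟙 _))
  have : IsIso ψ.τ₂ := inferInstanceAs (IsIso (𝟙 _))
  have : Mono ψ.τ₃ := ‹Mono ((cyclesSC K (n + 2)).map G).f›
  exact (ShortComplex.exact_iff_of_epi_of_isIso_of_mono ψ).1
    ((ShortComplex.exact_iff_of_epi_of_isIso_of_mono φ).2 (hG (n + 1)).exact)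

end GrothLib.DimShift
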