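import Groth.Agent.Lib.QCoh.ToSheaf
import Groth.Agent.Lib.SheafCoh.Top
import Mathlib.Algebra.Category.ModuleCat.Presheaf.Generator
import Mathlib.Topology.Sheaves.Flasque

/-!
# Injective sheaves of modules are flasque
-/

universe u

open CategoryTheory CategoryTheory.Limits Opposite TopologicalSpace

namespace GrothLib.Cohom

variable {C : Type u} [SmallCategory C] {J : GrothendieckTopology C}
  {R : Sheaf J RingCat.{u}} [HasSheafify J AddCommGrpCat.{u}]
  [J.WEqualsLocallyBijective AddCommGrpCat.{u}]

/-- The adjunction between presheaves of sets and sheaves of modules. -/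
noncomputable def freeModAdj :
    PresheafOfModules.free.{u} R.obj ⋙ PresheafOfModules.sheafification.{u} (𝟙 R.obj) ⊣
      (SheafOfModules.forget.{u} R ⋙ PresheafOfModules.restrictScalars (𝟙 R.obj)) ⋙
        (PresheafOfModules.toPresheaf R.obj ⋙ (Functor.whiskeringRight _ _ _).obj (forget Ab)) :=
  (PresheafOfModules.freeAdjunction R.obj).comp
    (PresheafOfModules.sheafificationAdjunction.{u} (𝟙 R.obj))

theorem freeMap_mono {U V : C} (i : V ⟶ U) [Mono i] :
    Mono ((PresheafOfModules.free.{u} R.obj).map (yoneda.map i)) := by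
  refine @Functor.mono_of_mono_map _ _ _ _ (PresheafOfModules.toPresheaf R.obj) inferInstance _ _ _ ?_
  refine @NatTrans.mono_of_mono_app _ _ _ _ _ _ _ fun W ↦ ?_
  rw [AddCommGrpCat.mono_iff_injective]
  exact Finsupp.mapDomain_injective fun a b hab ↦ (cancel_mono i).1 hab

/-- Restriction maps along monomorphisms of an injective sheaf of modules are surjective. -/
theorem mapSurjective_of_injective (I : SheafOfModules.{u} R) [Injective I] {U V : C} (i : V ⟶ U)
    [Mono i] : Function.Surjective (I.val.presheaf.map i.op) := by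
  intro s
  let φ : yoneda.obj V ⟶ _ := yonedaEquiv.symm (show (((SheafOfModules.forget.{u} R ⋙
    PresheafOfModules.restrictScalars (𝟙 R.obj)) ⋙ (PresheafOfModules.toPresheaf R.obj ⋙
    (Functor.whiskeringRight _ _ _).obj (forget Ab))).obj I).obj (op V) from s)
  let m := (freeModAdj (R := R).homEquiv (yoneda.obj V) I).symm φ
  have := freeMap_mono (R := R) i
  have : Mono ((PresheafOfModules.sheafification.{u} (𝟙 R.obj)).map
      ((PresheafOfModules.free.{u} R.obj).map (yoneda.map i))) := inferInstance
  let g := Injective.factorThru m ((PresheafOfModules.sheafification.{u} (𝟙 R.obj)).map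
    ((PresheafOfModules.free.{u} R.obj).map (yoneda.map i)))
  refine ⟨yonedaEquiv ((freeModAdj (R := R)).homEquiv (yoneda.obj U) I g), ?_⟩
  have h : (freeModAdj (R := R)).homEquiv (yoneda.obj V) I
      ((PresheafOfModules.free.{u} R.obj ⋙ PresheafOfModules.sheafification.{u} (𝟙 R.obj)).map
        (yoneda.map i) ≫ g) = φ := by
    refine (congrArg _ ?_).trans (Equiv.apply_symm_apply _ _)
    exact Injective.comp_factorThru m ((PresheafOfModules.sheafification.{u} (𝟙 R.obj)).map
      ((PresheafOfModules.free.{u} R.obj).map (yoneda.map i)))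
  rw [Adjunction.homEquiv_naturality_left] at h
  have h' := congrArg yonedaEquiv h
  rw [← yonedaEquiv_naturality] at h'
  exact h'.trans (yonedaEquiv.apply_symm_apply _)

open AlgebraicGeometry

/-- The abelian sheaf of an injective `O_X`-module is flasque. -/
theorem isFlasque_toAb_of_injective {X : Scheme.{u}} (I : X.Modules) [hI : Injective I] :
    TopCat.Sheaf.IsFlasque ((QCoh.toAbFun X).obj I) :=
  ⟨fun i ↦ (AddCommGrpCat.epi_iff_surjective _).2
    (@mapSurjective_of_injective _ _ _ X.ringCatSheaf _ _ I hI _ _ i.unop _)⟩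

end GrothLib.Cohom
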