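import Groth.Agent.Lib.Cohom.Compare
import Groth.Agent.Lib.Cohom.DerivedClass
import Groth.Agent.Lib.Cohom.InjModule
import Mathlib.Algebra.Homology.ShortComplex.ExactFunctor

/-!
# Higher direct images vanish when cohomology vanishes on preimages
-/

universe u

open CategoryTheory CategoryTheory.Limits Opposite TopologicalSpace AlgebraicGeometry Abelian

namespace GrothLib.Cohom

theorem acyclicOn_of_iso {X Y : TopCat.{u}} (f : X ⟶ Y) (B : Set (Opens Y)) {F F' : AbSheaf X}
    (e : F ≅ F') (h : AcyclicOn f B F) : AcyclicOn f B F' := fun W hW n ↦ by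
  have := h W hW n
  exact subsingleton_of_forall_eq 0 fun x ↦ by
    rw [← Ext.comp_mk₀_id x, ← e.inv_hom_id, ← Ext.mk₀_comp_mk₀,
      ← Ext.comp_assoc_of_third_deg_zero, Subsingleton.elim (x.comp (Ext.mk₀ e.inv) _) 0,
      Ext.zero_comp]

variable {X S : Scheme.{u}}

theorem isZero_RpushAb_of_acyclicOn (f : X ⟶ S) (F : AbSheaf X)
    (hF : AcyclicOn f.base S.affineOpens F) (n : ℕ) :
    IsZero ((Coh.RpushAb f (n + 1)).obj F) :=
  DimShift.isZero_rightDerived_of_class (Coh.pushAb f) (AcyclicOn f.base S.affineOpens)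
    (acyclicOn_of_iso f.base _)
    (fun _ hS hI h₁ ↦ ⟨acyclicOn_X₃ f.base hS h₁ (acyclicOn_of_injective f.base _ _ hI),
      pushFun_map_shortExact f.base S.isBasis_affineOpens hS h₁⟩) F hF n

theorem acyclicOn_toAb_of_injective (f : X ⟶ S) (I : X.Modules) (hI : Injective I) :
    AcyclicOn f.base S.affineOpens (Coh.toAb I) := fun W _ n ↦ by
  have : TopCat.Sheaf.IsFlasque (Coh.toAb I) := isFlasque_toAb_of_injective I
  exact SheafCoh.flasque_HU_subsingleton (Coh.toAb I) n ((Opens.map f.base).obj W)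

theorem pushforward_map_shortExact (f : X ⟶ S) {T : ShortComplex X.Modules} (hT : T.ShortExact)
    (h₁ : AcyclicOn f.base S.affineOpens (Coh.toAb T.X₁)) :
    (T.map (Scheme.Modules.pushforward f)).ShortExact := by
  have h := pushFun_map_shortExact f.base S.isBasis_affineOpens
    (QCoh.toAbFun_map_shortExact T hT) h₁
  have : PreservesFiniteColimits (QCoh.toAbFun S) :=
    QCoh.toSheaf_preservesFiniteColimits (R := S.ringCatSheaf)
  have : (QCoh.toAbFun S).PreservesZeroMorphisms := inferInstance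
  have : PreservesFiniteLimits (QCoh.toAbFun S) :=
    (((QCoh.toAbFun S).exact_tfae.out 0 3
      (a := ∀ (T : ShortComplex S.Modules), T.ShortExact → (T.map (QCoh.toAbFun S)).ShortExact)
      (b := PreservesFiniteLimits (QCoh.toAbFun S) ∧ PreservesFiniteColimits (QCoh.toAbFun S))).1
        QCoh.toAbFun_map_shortExact).1
  have : (QCoh.toAbFun S).Faithful := inferInstanceAs (SheafOfModules.toSheaf _).Faithful
  exact
    { exact := (ShortComplex.exact_map_iff_of_faithful _ (QCoh.toAbFun S)).1 h.exact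
      mono_f := (QCoh.toAbFun S).mono_of_mono_map (f := (T.map (Scheme.Modules.pushforward f)).f)
        h.mono_f
      epi_g := (QCoh.toAbFun S).epi_of_epi_map (f := (T.map (Scheme.Modules.pushforward f)).g)
        h.epi_g }

theorem isZero_Rpush_of_acyclicOn (f : X ⟶ S) [HasInjectiveResolutions X.Modules] (M : X.Modules)
    (hM : AcyclicOn f.base S.affineOpens (Coh.toAb M)) (n : ℕ) :
    IsZero ((Coh.Rpush f (n + 1)).obj M) :=
  DimShift.isZero_rightDerived_of_class (Scheme.Modules.pushforward f)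
    (fun N ↦ AcyclicOn f.base S.affineOpens (Coh.toAb N))
    (fun e h ↦ acyclicOn_of_iso f.base _ ((QCoh.toAbFun X).mapIso e) h)
    (fun _ hS hI h₁ ↦ ⟨acyclicOn_X₃ f.base (QCoh.toAbFun_map_shortExact _ hS) h₁
      (acyclicOn_toAb_of_injective f _ hI), pushforward_map_shortExact f hS h₁⟩) M hM n

theorem acyclicOn_pushforward {Y : Scheme.{u}} (g : X ⟶ Y) [IsAffineHom g] (f : Y ⟶ S)
    [IsAffineHom (g ≫ f)] (N : X.Modules) [N.IsQuasicoherent] :
    AcyclicOn f.base S.affineOpens (Coh.toAb ((Scheme.Modules.pushforward g).obj N)) :=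
  fun W hW n ↦ by
    obtain ⟨e⟩ := nonempty_ext_preimage_equiv g N (f ⁻¹ᵁ W) (n + 1)
    have := acyclicOn_of_isAffineHom (g ≫ f) N W hW n
    exact @Equiv.subsingleton _ _ e.symm.toEquiv this

end GrothLib.Cohom
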