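import Groth.Agent.Lib.Cohom.RpushModules
import Groth.Agent.Lib.SheafCoh.TopPush
import Groth.Agent.Lib.Cohom.PushDerived
import Groth.Agent.Lib.SheafCoh.ModGroth

/-!
# The abelian sheaf of a higher direct image of modules, and its sections on affine opens
-/

set_option backward.isDefEq.respectTransparency false

universe u

open CategoryTheory CategoryTheory.Limits Opposite TopologicalSpace AlgebraicGeometry Abelian

namespace GrothLib.Cohom

variable {X S : Scheme.{u}} (f : X ⟶ S) {M : X.Modules} (I : FlRes M) (p : ℕ)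

theorem hcls_eq_of_cocClass_eq {V : S.Opens} (z z' : cocycles I p (f ⁻¹ᵁ V))
    (h : cocClass I p (f ⁻¹ᵁ V) z = cocClass I p (f ⁻¹ᵁ V) z') :
    Cocyc.hcls (pushCx f I.cocomplex) p (V := V) z.1 z.2 =
      Cocyc.hcls (pushCx f I.cocomplex) p (V := V) z'.1 z'.2 := by
  have h0 : Cocyc.Bdy I.cocomplex p (z - z').1 :=
    (cocClass_eq_zero_iff I p _ _).1 (by rw [map_sub, h, sub_self])
  have h1 := Cocyc.hcls_eq_zero_of_bdy (pushCx f I.cocomplex) p (V := V) (z - z').1 (z - z').2 h0
  exact sub_eq_zero.1 ((Cocyc.hcls_sub (pushCx f I.cocomplex) p (V := V) z.1 z'.1 z.2 z'.2).symm.trans h1)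

/-- From classes on preimages to sections of the homology sheaf. -/
noncomputable def classToSection (V : S.Opens) :
    Ext.{u} (freeFun.obj (f ⁻¹ᵁ V)) (Coh.toAb M) p →+ Γ((pushCx f I.cocomplex).homology p, V) :=
  AddMonoidHom.mk'
    (fun x ↦ Cocyc.hcls (pushCx f I.cocomplex) p (V := V)
      (Function.surjInv (cocClass_surjective I p _) x).1
      (Function.surjInv (cocClass_surjective I p _) x).2)
    fun a b ↦ by
      refine (hcls_eq_of_cocClass_eq f I p _ (Function.surjInv (cocClass_surjective I p _) a +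
        Function.surjInv (cocClass_surjective I p _) b) ?_).trans
          (Cocyc.hcls_add (pushCx f I.cocomplex) p (V := V) _ _ _ _)
      simp only [map_add, Function.surjInv_eq (cocClass_surjective I p _)]

theorem classToSection_cocClass (V : S.Opens) (z : cocycles I p (f ⁻¹ᵁ V)) :
    classToSection f I p V (cocClass I p _ z) =
      Cocyc.hcls (pushCx f I.cocomplex) p (V := V) z.1 z.2 :=
  hcls_eq_of_cocClass_eq f I p _ _ (Function.surjInv_eq _ _)

theorem classToSection_res {V W : S.Opens} (h : W ≤ V)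
    (x : Ext.{u} (freeFun.obj (f ⁻¹ᵁ V)) (Coh.toAb M) p) :
    classToSection f I p W (res _ p (f.preimage_mono h) x) =
      Cocyc.rs h (classToSection f I p V x) := by
  obtain ⟨z, rfl⟩ := cocClass_surjective I p _ x
  rw [← cocClass_rs, classToSection_cocClass, classToSection_cocClass]
  exact Cocyc.hcls_rs (pushCx f I.cocomplex) p (V := V) h z.1 z.2

/-- The cohomology presheaf of preimages maps to the homology sheaf. -/
noncomputable def presheafToHomology :
    (Opens.map f.base).op ⋙ Sheaf.cohomologyPresheaf.{u} (Coh.toAb M) p ⟶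
      (Coh.toAb ((pushCx f I.cocomplex).homology p)).obj where
  app V := AddCommGrpCat.ofHom (classToSection f I p V.unop)
  naturality {V W} i := by
    ext x
    exact classToSection_res f I p i.unop.le x

theorem isLocallyInjective_presheafToHomology :
    Presheaf.IsLocallyInjective (Opens.grothendieckTopology S) (presheafToHomology f I p) := by
  constructor
  intro V x y h x₀ hx₀
  obtain ⟨z, rfl⟩ := cocClass_surjective I p (f ⁻¹ᵁ V.unop) x
  obtain ⟨z', rfl⟩ := cocClass_surjective I p (f ⁻¹ᵁ V.unop) y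
  change classToSection f I p V.unop _ = classToSection f I p V.unop _ at h
  rw [classToSection_cocClass, classToSection_cocClass] at h
  have h0 : Cocyc.hcls (pushCx f I.cocomplex) p (V := V.unop) (z - z').1 (z - z').2 = 0 :=
    (Cocyc.hcls_sub (pushCx f I.cocomplex) p (V := V.unop) z.1 z'.1 z.2 z'.2).trans
      (sub_eq_zero.2 h)
  obtain ⟨W, hWV, hx₀W, hb⟩ := Cocyc.exists_bdy_local (pushCx f I.cocomplex) p (V := V.unop)
    (z - z').1 (z - z').2 h0 x₀ hx₀
  refine ⟨W, homOfLE hWV, ?_, hx₀W⟩
  change res _ p (f.preimage_mono hWV) (cocClass I p _ z) =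
    res _ p (f.preimage_mono hWV) (cocClass I p _ z')
  rw [← sub_eq_zero, ← map_sub, ← map_sub, ← cocClass_rs, cocClass_eq_zero_iff]
  exact hb

theorem isLocallySurjective_presheafToHomology :
    Presheaf.IsLocallySurjective (Opens.grothendieckTopology S) (presheafToHomology f I p) := by
  constructor
  intro V s x₀ hx₀
  obtain ⟨W, hWV, hx₀W, z, hz, he⟩ :=
    Cocyc.exists_hcls_local (pushCx f I.cocomplex) p (V := V) s x₀ hx₀
  exact ⟨W, homOfLE hWV,
    ⟨cocClass I p (f ⁻¹ᵁ W) ⟨z, hz⟩, (classToSection_cocClass f I p W ⟨z, hz⟩).trans he⟩, hx₀W⟩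

/-- The abelian sheaf of the homology of the direct image is the higher direct image. -/
theorem nonempty_homology_iso_RpushAb :
    Nonempty (Coh.toAb ((pushCx f I.cocomplex).homology p) ≅
      (Coh.RpushAb f p).obj (Coh.toAb M)) := by
  have := isLocallyInjective_presheafToHomology f I p
  have := isLocallySurjective_presheafToHomology f I p
  have : IsIso ((presheafToSheaf (Opens.grothendieckTopology S) AddCommGrpCat.{u}).map
      (presheafToHomology f I p)) :=
    (GrothendieckTopology.W_iff _ _).1 (GrothendieckTopology.W_of_isLocallyBijective _ _)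
  exact ⟨sheafificationIso (Coh.toAb ((pushCx f I.cocomplex).homology p)) ≪≫
    (asIso ((presheafToSheaf (Opens.grothendieckTopology S) AddCommGrpCat.{u}).map
      (presheafToHomology f I p))).symm ≪≫
      (SheafCoh.topRpushIso f.base (Coh.toAb M) p).symm⟩

/-- On an affine open, sections of the homology sheaf are the cohomology of the preimage. -/
theorem classToSection_bijective [QuasiCompact f] [QuasiSeparated f] [M.IsQuasicoherent]
    {V : S.Opens} (hV : IsAffineOpen V) : Function.Bijective (classToSection f I p V) := by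
  refine ⟨(injective_iff_map_eq_zero _).2 fun x hx ↦ ?_, fun s ↦ ?_⟩
  · obtain ⟨z, rfl⟩ := cocClass_surjective I p _ x
    rw [classToSection_cocClass] at hx
    exact (cocClass_eq_zero_iff I p _ z).2
      (Cocyc.bdy_of_hcls_eq_zero (localises_pushCx f I p) hV z.1 z.2 hx)
  · obtain ⟨z, hz, rfl⟩ := Cocyc.exists_hcls_eq (localises_pushCx f I p) hV s
    exact ⟨cocClass I p (f ⁻¹ᵁ V) ⟨z, hz⟩, classToSection_cocClass f I p V ⟨z, hz⟩⟩

/-- A flasque resolution exists. -/
theorem nonempty_flRes [HasInjectiveResolutions X.Modules] (M : X.Modules) : Nonempty (FlRes M) :=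
  ⟨.ofInjective (injectiveResolution M)⟩

theorem nonempty_flRes' (M : X.Modules) : Nonempty (FlRes M) := by
  have : IsGrothendieckAbelian.{u} X.Modules :=
    SheafCoh.isGrothendieckAbelian_sheafOfModules (R := X.ringCatSheaf)
  exact nonempty_flRes M

theorem nonempty_RpushAb_sections_equiv [QuasiCompact f] [QuasiSeparated f] (M : X.Modules)
    [M.IsQuasicoherent] {V : S.Opens} (hV : IsAffineOpen V) :
    Nonempty (Ext.{u} (freeFun.obj (f ⁻¹ᵁ V)) (Coh.toAb M) p ≃+
      ((Coh.RpushAb f p).obj (Coh.toAb M)).obj.obj (op V)) := by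
  obtain ⟨I⟩ := nonempty_flRes' M
  obtain ⟨e⟩ := nonempty_homology_iso_RpushAb f I p
  exact ⟨(AddEquiv.ofBijective _ (classToSection_bijective f I p hV)).trans
    (((sheafToPresheaf _ _).mapIso e).app (op V)).addCommGroupIsoToAddEquiv⟩

/-- A flasque resolution pushes forward along an affine morphism. -/
theorem nonempty_flRes_push [IsAffineHom f] [M.IsQuasicoherent] :
    ∃ J : FlRes ((Scheme.Modules.pushforward f).obj M), J.cocomplex = pushCx f I.cocomplex := by
  have : PreservesFiniteLimits (Scheme.Modules.pushforward f) := by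
    have : PreservesLimitsOfSize.{0, 0} (Scheme.Modules.pushforward f) :=
      (Scheme.Modules.pullbackPushforwardAdjunction f).rightAdjoint_preservesLimits
    exact PreservesLimitsOfSize.preservesFiniteLimits.{0, 0} _
  refine ⟨{ cocomplex := pushCx f I.cocomplex
            ι := (Scheme.Modules.pushforward f).map I.ι
            ι_d := ((Scheme.Modules.pushforward f).map_comp _ _).symm.trans
              ((congrArg _ I.ι_d).trans ((Scheme.Modules.pushforward f).map_zero _ _))
            isKernel := KernelFork.mapIsLimit _ I.isKernel (Scheme.Modules.pushforward f)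
            exact_succ := fun n ↦ ?_
            flasque := fun n {_ _} h ↦ I.flasque n (f.preimage_mono h) }, rfl⟩
  obtain ⟨e⟩ := nonempty_homology_iso_RpushAb f I (n + 1)
  have hz : IsZero (Coh.toAb ((pushCx f I.cocomplex).homology (n + 1))) :=
    (isZero_RpushAb_of_acyclicOn f _ (acyclicOn_of_isAffineHom f M) n).of_iso e
  have : (QCoh.toAbFun S).Faithful := inferInstanceAs (SheafOfModules.toSheaf _).Faithful
  have hz' : IsZero ((pushCx f I.cocomplex).homology (n + 1)) :=
    (IsZero.iff_id_eq_zero _).2 ((QCoh.toAbFun S).map_injective (hz.eq_of_src _ _))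
  have h2 := (HomologicalComplex.exactAt_iff_isZero_homology _ _).2 hz'
  rwa [HomologicalComplex.exactAt_iff' _ n (n + 1) (n + 2) (by simp) (by simp)] at h2

theorem nonempty_RpushAb_pushforward_iso [IsAffineHom f] {T : Scheme.{u}} (g : S ⟶ T)
    (M : X.Modules) [M.IsQuasicoherent] :
    Nonempty ((Coh.RpushAb g p).obj (Coh.toAb ((Scheme.Modules.pushforward f).obj M)) ≅
      (Coh.RpushAb (f ≫ g) p).obj (Coh.toAb M)) := by
  obtain ⟨I⟩ := nonempty_flRes' M
  obtain ⟨J, hJ⟩ := nonempty_flRes_push f I
  obtain ⟨e₁⟩ := nonempty_homology_iso_RpushAb g J p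
  obtain ⟨e₂⟩ := nonempty_homology_iso_RpushAb (f ≫ g) I p
  rw [hJ] at e₁
  exact ⟨e₁.symm ≪≫ e₂⟩

/-- The higher direct image along a composite with an affine morphism. -/
theorem nonempty_RpushAb_comp_affine_iso [QuasiCompact f] [QuasiSeparated f] {T : Scheme.{u}}
    (g : S ⟶ T) [IsAffineHom g] (M : X.Modules) [M.IsQuasicoherent] :
    Nonempty ((Coh.RpushAb (f ≫ g) p).obj (Coh.toAb M) ≅
      (Coh.pushAb g).obj ((Coh.RpushAb f p).obj (Coh.toAb M))) := by
  obtain ⟨I⟩ := nonempty_flRes' M
  obtain ⟨e⟩ := nonempty_homology_iso_RpushAb f I p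
  let η : (Opens.map (f ≫ g).base).op ⋙ Sheaf.cohomologyPresheaf.{u} (Coh.toAb M) p ⟶
      ((Coh.pushAb g).obj (Coh.toAb ((pushCx f I.cocomplex).homology p))).obj :=
    Functor.whiskerLeft (Opens.map g.base).op (presheafToHomology f I p)
  have hbij : ∀ W : T.Opens, IsAffineOpen W → Function.Bijective (η.app (op W)) := fun W hW ↦
    classToSection_bijective f I p (hW.preimage g)
  have : Presheaf.IsLocallyInjective (Opens.grothendieckTopology T) η := ⟨fun {V} x y h x₀ hx₀ ↦ by
    obtain ⟨W, hW, hx₀W, hWV⟩ := Opens.isBasis_iff_nbhd.1 T.isBasis_affineOpens hx₀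
    refine ⟨W, homOfLE hWV, (hbij W hW).1 ?_, hx₀W⟩
    rw [NatTrans.naturality_apply η, NatTrans.naturality_apply η, h]⟩
  have : Presheaf.IsLocallySurjective (Opens.grothendieckTopology T) η := ⟨fun {V} s x₀ hx₀ ↦ by
    obtain ⟨W, hW, hx₀W, hWV⟩ := Opens.isBasis_iff_nbhd.1 T.isBasis_affineOpens hx₀
    exact ⟨W, homOfLE hWV, (hbij W hW).2 _, hx₀W⟩⟩
  have : IsIso ((presheafToSheaf (Opens.grothendieckTopology T) AddCommGrpCat.{u}).map η) :=
    (GrothendieckTopology.W_iff _ _).1 (GrothendieckTopology.W_of_isLocallyBijective _ _)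
  exact ⟨SheafCoh.topRpushIso (f ≫ g).base (Coh.toAb M) p ≪≫
    asIso ((presheafToSheaf (Opens.grothendieckTopology T) AddCommGrpCat.{u}).map η) ≪≫
      (sheafificationIso _).symm ≪≫ (Coh.pushAb g).mapIso e⟩

end GrothLib.Cohom
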