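import Groth.Agent.Lib.Cohom.Criterion
import Groth.Agent.Lib.Cohom.AffineSections
import Groth.Prelude.Def_Coh

/-!
# Affine Serre vanishing
-/

universe u

open CategoryTheory CategoryTheory.Limits Opposite TopologicalSpace AlgebraicGeometry Abelian

namespace GrothLib.Cohom

variable {X : Scheme.{u}}

theorem basicOpen_add_le {U : X.Opens} (f g : Γ(X, U)) :
    X.basicOpen (f + g) ≤ X.basicOpen f ⊔ X.basicOpen g := by
  intro x hx
  have hxU : x ∈ U := X.basicOpen_le _ hx
  rw [X.mem_basicOpen _ x hxU, map_add] at hx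
  rcases IsLocalRing.isUnit_or_isUnit_of_isUnit_add hx with h | h
  · exact Or.inl ((X.mem_basicOpen f x hxU).2 h)
  · exact Or.inr ((X.mem_basicOpen g x hxU).2 h)

theorem exists_pow_succ_mem_of_basicOpen {U : X.Opens} (hU : IsAffineOpen U) (I : Ideal Γ(X, U))
    (f : Γ(X, U)) (h : ∀ p ∈ X.basicOpen f, ∃ g ∈ I, p ∈ X.basicOpen g) :
    ∃ k : ℕ, f ^ (k + 1) ∈ I := by
  have : f ∈ I.radical := by
    rw [Ideal.radical_eq_sInf, Submodule.mem_sInf]
    rintro P ⟨hIP, hP⟩
    by_contra hf
    let q : Spec Γ(X, U) := ⟨P, hP⟩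
    have e : ∀ a : Γ(X, U), hU.fromSpec q ∈ X.basicOpen a ↔ a ∉ P := fun a ↦ by
      change q ∈ hU.fromSpec ⁻¹ᵁ X.basicOpen a ↔ _
      rw [hU.fromSpec_preimage_basicOpen]
      rfl
    obtain ⟨g, hg, hgp⟩ := h _ ((e f).2 hf)
    exact (e g).1 hgp (hIP hg)
  obtain ⟨k, hk⟩ := this
  exact ⟨k, by rw [pow_succ]; exact I.mul_mem_right f hk⟩

/-- Serre vanishing: positive degree cohomology of a quasi-coherent module on a basic open of an
affine open is zero. -/
theorem subsingleton_ext_freeFun_basicOpen {U : X.Opens} (hU : IsAffineOpen U) (M : X.Modules)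
    [M.IsQuasicoherent] (n : ℕ) (f : Γ(X, U)) :
    Subsingleton (Ext.{u} (freeFun.obj (X.basicOpen f)) (Coh.toAb M) (n + 1)) := by
  refine subsingleton_of_basis_surjective (fun g ↦ X.basicOpen g) (Coh.toAb M)
    (X.basicOpen_zero U) (fun f g ↦ X.basicOpen_mul f g) basicOpen_add_le ?_
    (exists_pow_succ_mem_of_basicOpen hU) ?_ n f
  · intro f p hp V hpV
    obtain ⟨g, hgV, hpg⟩ := hU.exists_basicOpen_le ⟨p, hpV⟩ (X.basicOpen_le f hp)
    exact ⟨g, hpg, hgV⟩
  · intro f a b hf y
    have la : X.basicOpen a ≤ X.basicOpen f := hf ▸ le_sup_left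
    have lb : X.basicOpen b ≤ X.basicOpen f := hf ▸ le_sup_right
    have ea : X.basicOpen (X.presheaf.map (homOfLE (X.basicOpen_le f)).op a) = X.basicOpen a := by
      rw [X.basicOpen_res, inf_eq_right.2 la]
    have eb : X.basicOpen (X.presheaf.map (homOfLE (X.basicOpen_le f)).op b) = X.basicOpen b := by
      rw [X.basicOpen_res, inf_eq_right.2 lb]
    have eab := congrArg₂ (· ⊓ ·) ea eb
    obtain ⟨u, v, huv⟩ := exists_map_sub_map_eq (hU.basicOpen f) M
      (X.presheaf.map (homOfLE (X.basicOpen_le f)).op a)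
      (X.presheaf.map (homOfLE (X.basicOpen_le f)).op b) (by rw [ea, eb, ← hf])
      (M.presheaf.map (eqToHom eab).op y)
    refine ⟨M.presheaf.map (eqToHom ea.symm).op u, M.presheaf.map (eqToHom eb.symm).op v, ?_⟩
    have h1 := congrArg (M.presheaf.map (eqToHom eab.symm).op) huv
    rw [map_sub, map_map_apply, map_map_apply, map_map_apply, map_self_apply] at h1
    change M.presheaf.map _ (M.presheaf.map _ u) - M.presheaf.map _ (M.presheaf.map _ v) = y
    rw [map_map_apply, map_map_apply]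
    exact h1

/-- Serre vanishing: positive degree cohomology of a quasi-coherent module on an affine open is
zero. -/
theorem subsingleton_ext_freeFun_of_isAffineOpen {U : X.Opens} (hU : IsAffineOpen U)
    (M : X.Modules) [M.IsQuasicoherent] (n : ℕ) :
    Subsingleton (Ext.{u} (freeFun.obj U) (Coh.toAb M) (n + 1)) := by
  have h := subsingleton_ext_freeFun_basicOpen hU M n 1
  rwa [X.basicOpen_of_isUnit isUnit_one] at h

/-- Serre vanishing, for `Sheaf.H'`. -/
theorem subsingleton_H'_of_isAffineOpen {U : X.Opens} (hU : IsAffineOpen U)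
    (M : X.Modules) [M.IsQuasicoherent] (n : ℕ) :
    Subsingleton (Sheaf.H' (Coh.toAb M) (n + 1) U) :=
  subsingleton_ext_freeFun_of_isAffineOpen hU M n

/-- Serre vanishing: `H^p(X, M) = 0` for `p > 0`, `X` affine and `M` quasi-coherent. -/
theorem subsingleton_HH_of_isAffine [IsAffine X] (M : X.Modules) [M.IsQuasicoherent] (p : ℕ)
    (hp : 0 < p) : Subsingleton (Coh.HH X M p) := by
  obtain ⟨n, rfl⟩ := Nat.exists_eq_succ_of_ne_zero hp.ne'
  have := subsingleton_ext_freeFun_of_isAffineOpen (isAffineOpen_top X) M n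
  exact (HEquivTop (T := X) (Coh.toAb M) (n + 1)).toEquiv.subsingleton

end GrothLib.Cohom
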