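import Groth.Agent.Lib.Cohom.RpushSections
import Groth.Agent.Lib.QCoh.Filtration

/-!
# Any resolution by flasque modules computes higher direct images of modules
-/

set_option backward.isDefEq.respectTransparency false

universe u v w

open CategoryTheory CategoryTheory.Limits Opposite TopologicalSpace AlgebraicGeometry Abelian

namespace GrothLib.ClassChain

variable {C : Type w} [Category.{v} C] [Abelian C] [HasExt.{u} C] {K L : CochainComplex C ℕ}
  (hK : ∀ n, (ShortComplex.mk _ _ (K.d_comp_d n (n + 1) (n + 2))).Exact)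
  (hL : ∀ n, (ShortComplex.mk _ _ (L.d_comp_d n (n + 1) (n + 2))).Exact)

/-- The map on cycles of a map of complexes. -/
noncomputable abbrev zMap₂ (θ : K ⟶ L) (p : ℕ) : Z K p ⟶ Z L p :=
  kernel.map _ _ (θ.f p) (θ.f (p + 1)) (θ.comm p (p + 1)).symm

theorem zMap₂_comp_cls (θ : K ⟶ L) (p : ℕ) :
    (Ext.mk₀ (zMap₂ θ p)).comp (cls hL p) (zero_add p) =
      (cls hK p).comp (Ext.mk₀ (zMap₂ θ 0)) (add_zero p) := by
  induction p with
  | zero => simp [cls_zero]
  | succ p ih =>
    have hS := DimShift.cyclesSC_shortExact K p (hK p)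
    have hS' := DimShift.cyclesSC_shortExact L p (hL p)
    let α : DimShift.cyclesSC K p ⟶ DimShift.cyclesSC L p :=
      { τ₁ := zMap₂ θ p
        τ₂ := θ.f p
        τ₃ := zMap₂ θ (p + 1)
        comm₁₂ := kernel.lift_ι _ _ _
        comm₂₃ := by
          apply equalizer.hom_ext
          simp [zMap₂, DimShift.cyclesSC] }
    have h := ShortComplex.ShortExact.extClass_naturality hS hS' α
    rw [cls_succ, cls_succ,
      ← Ext.comp_assoc (a₁₂ := 1) _ _ _ (zero_add 1) (Nat.add_comm 1 p) (by omega)]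
    erw [← h]
    rw [Ext.comp_assoc_of_second_deg_zero]
    erw [ih]
    exact (Ext.comp_assoc _ _ _ _ _ (by omega)).symm

theorem mapCls_naturality {A : C} (θ : K ⟶ L) (p : ℕ) (φ : A ⟶ Z K p) :
    mapCls hL A p (φ ≫ zMap₂ θ p) =
      (mapCls hK A p φ).comp (Ext.mk₀ (zMap₂ θ 0)) (add_zero p) := by
  rw [mapCls_apply, mapCls_apply, ← Ext.mk₀_comp_mk₀, Ext.comp_assoc_of_second_deg_zero,
    zMap₂_comp_cls hK hL]
  exact (Ext.comp_assoc _ _ _ _ _ (by omega)).symm

end GrothLib.ClassChain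

namespace GrothLib.Cohom

variable {X S : Scheme.{u}} {M : X.Modules} {I J : FlRes M}

theorem coc_app (φ : I.cocomplex ⟶ J.cocomplex) {p : ℕ} {W : X.Opens} (z : cocycles I p W) :
    Cocyc.Coc J.cocomplex p ((φ.f p).app W z.1) := by
  have h : (I.cocomplex.d p (p + 1)).app W z.1 = 0 := z.2
  change (J.cocomplex.d p (p + 1)).app W ((φ.f p).app W z.1) = 0
  rw [← ConcreteCategory.comp_apply, ← Scheme.Modules.Hom.comp_app, φ.comm,
    Scheme.Modules.Hom.comp_app, ConcreteCategory.comp_apply, h, map_zero]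

/-- Classes of cocycles are natural in the resolution. -/
theorem cocClass_app (φ : I.cocomplex ⟶ J.cocomplex) (hφ : I.ι ≫ φ.f 0 = J.ι) (p : ℕ)
    (W : X.Opens) (z : cocycles I p W) :
    cocClass J p W ⟨(φ.f p).app W z.1, coc_app φ z⟩ = cocClass I p W z := by
  let θ : abCx I ⟶ abCx J := ((QCoh.toAbFun X).mapHomologicalComplex _).map φ
  have e : liftCoc J p W ⟨(φ.f p).app W z.1, coc_app φ z⟩ =
      liftCoc I p W z ≫ ClassChain.zMap₂ θ p := by
    apply equalizer.hom_ext
    rw [liftCoc_ι, Category.assoc, kernel.lift_ι, ← Category.assoc, liftCoc_ι]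
    apply (sectionsEquiv W (Coh.toAb (J.cocomplex.X p))).injective
    rw [sectionsEquiv_comp, Equiv.apply_symm_apply]
    erw [Equiv.apply_symm_apply]
    rfl
  have e0 : ClassChain.zMap₂ θ 0 ≫ (z0 J).inv = (z0 I).inv := by
    rw [Iso.comp_inv_eq, Iso.eq_inv_comp]
    apply equalizer.hom_ext
    rw [Category.assoc, kernel.lift_ι, ← Category.assoc, z0_hom_ι, z0_hom_ι]
    exact ((QCoh.toAbFun X).map_comp _ _).symm.trans (congrArg (QCoh.toAbFun X).map hφ)
  rw [cocClass_apply, e, ClassChain.mapCls_naturality (abCx_exact I) (abCx_exact J), cocClass_apply,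
    Ext.comp_assoc_of_third_deg_zero, Ext.mk₀_comp_mk₀, e0]

/-- A flasque resolution maps to any injective resolution, compatibly with the augmentations. -/
theorem exists_hom_ofInjective (I : FlRes M) (R : InjectiveResolution M) :
    ∃ φ : I.cocomplex ⟶ (FlRes.ofInjective R).cocomplex,
      I.ι ≫ φ.f 0 = (FlRes.ofInjective R).ι := by
  suffices h : ∃ φ : I.cocomplex ⟶ R.cocomplex, I.ι ≫ φ.f 0 = R.ι.f 0 from h
  have : Mono I.ι := mono_of_isLimit_fork I.isKernel
  have h0 : (ShortComplex.mk I.ι (I.cocomplex.d 0 1) I.ι_d).Exact :=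
    ShortComplex.exact_of_f_is_kernel _ I.isKernel
  have hinj : ∀ n, Injective (R.cocomplex.X n) := R.injective
  let g₀ : I.cocomplex.X 0 ⟶ R.cocomplex.X 0 := Injective.factorThru (R.ι.f 0) I.ι
  have hg₀ : I.ι ≫ g₀ = R.ι.f 0 := Injective.comp_factorThru _ _
  have hw : I.ι ≫ g₀ ≫ R.cocomplex.d 0 1 = 0 := by
    rw [← Category.assoc, hg₀]; exact R.ι_f_zero_comp_complex_d
  refine ⟨CochainComplex.mkHom _ _ g₀ (h0.descToInjective (g₀ ≫ R.cocomplex.d 0 1) hw)
    (h0.comp_descToInjective _ hw).symm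
    (fun n ⟨g, g', w⟩ ↦ ⟨(I.exact_succ n).descToInjective (g' ≫ R.cocomplex.d (n + 1) (n + 2)) (by
        change I.cocomplex.d n (n + 1) ≫ g' ≫ _ = 0
        rw [← Category.assoc, ← w, Category.assoc, HomologicalComplex.d_comp_d, comp_zero]),
      ((I.exact_succ n).comp_descToInjective _ _).symm⟩), hg₀⟩

/-- Quasi-isomorphic flasque resolutions have the same homology after pushing forward. -/
theorem isIso_homologyMap_pushCx (f : X ⟶ S) (φ : I.cocomplex ⟶ J.cocomplex)
    (hφ : I.ι ≫ φ.f 0 = J.ι) (p : ℕ) :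
    IsIso (HomologicalComplex.homologyMap
      (((Scheme.Modules.pushforward f).mapHomologicalComplex _).map φ) p) := by
  let ψ : pushCx f I.cocomplex ⟶ pushCx f J.cocomplex :=
    ((Scheme.Modules.pushforward f).mapHomologicalComplex _).map φ
  change IsIso (HomologicalComplex.homologyMap ψ p)
  have hnat : ∀ (V : S.Opens) (z : cocycles I p (f ⁻¹ᵁ V)),
      (HomologicalComplex.homologyMap ψ p).app V
          (Cocyc.hcls (pushCx f I.cocomplex) p (V := V) z.1 z.2) =
        Cocyc.hcls (pushCx f J.cocomplex) p (V := V) ((φ.f p).app _ z.1) (coc_app φ z) := by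
    intro V z
    have h1 := congrArg (fun t ↦ t.app V (Cocyc.cyc (pushCx f I.cocomplex) p (V := V) z.1 z.2))
      (HomologicalComplex.homologyπ_naturality ψ p)
    refine h1.trans (congrArg ((pushCx f J.cocomplex).homologyπ p |>.app V) ?_)
    refine (Cocyc.cyc_eq (pushCx f J.cocomplex) p (V := V) _ (coc_app φ z) ?_).symm
    have h2 := congrArg (fun t ↦ t.app V (Cocyc.cyc (pushCx f I.cocomplex) p (V := V) z.1 z.2))
      (HomologicalComplex.cyclesMap_i ψ p)
    refine h2.trans (congrArg ((ψ.f p).app V) ?_)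
    exact Cocyc.iCycles_cyc (pushCx f I.cocomplex) p (V := V) z.1 z.2
  refine (OX.isIso_iff _).2 fun x ↦ (ConcreteCategory.isIso_iff_bijective _).2 ?_
  change Function.Bijective (QCoh.stalkLin (HomologicalComplex.homologyMap ψ p) x)
  refine ⟨(injective_iff_map_eq_zero _).2 fun e he ↦ ?_, fun e ↦ ?_⟩
  · obtain ⟨U, hx, s, rfl⟩ := TopCat.Presheaf.exists_germ_eq _ e
    obtain ⟨W, hWU, hxW, z, hz, hzs⟩ :=
      Cocyc.exists_hcls_local (pushCx f I.cocomplex) p (V := U) s x hx
    have es := TopCat.Presheaf.germ_res_apply ((pushCx f I.cocomplex).homology p).presheaf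
      (homOfLE hWU) x hxW s
    rw [show ((pushCx f I.cocomplex).homology p).presheaf.map (homOfLE hWU).op s = _ from hzs.symm]
      at es
    rw [← es, QCoh.stalkLin_germ, hnat W ⟨z, hz⟩, ← map_zero
      (((pushCx f J.cocomplex).homology p).presheaf.germ W x hxW).hom] at he
    obtain ⟨W', hxW', i, i', he'⟩ := TopCat.Presheaf.germ_eq
      ((pushCx f J.cocomplex).homology p).presheaf x hxW hxW _ _ he
    have hc : Cocyc.Coc (pushCx f J.cocomplex) p (W := W')
        (Cocyc.rs i.le ((φ.f p).app (f ⁻¹ᵁ W) z)) := Cocyc.Coc.rs (K := pushCx f J.cocomplex) (coc_app φ ⟨z, hz⟩) i.le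
    have h0 : Cocyc.hcls (pushCx f J.cocomplex) p (V := W') _ hc = 0 :=
      ((Cocyc.hcls_rs (pushCx f J.cocomplex) p (V := W) i.le _ (coc_app φ ⟨z, hz⟩))).trans
        (he'.trans (map_zero _))
    obtain ⟨W'', hW'', hxW'', hb⟩ := Cocyc.exists_bdy_local (pushCx f J.cocomplex) p (V := W') _ hc
      h0 x hxW'
    let h₂ : W'' ≤ W := hW''.trans i.le
    let z'' : cocycles I p (f ⁻¹ᵁ W'') :=
      ⟨Cocyc.rs (f.preimage_mono h₂) z, Cocyc.Coc.rs (K := I.cocomplex) hz (f.preimage_mono h₂)⟩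
    have hb' : Cocyc.Bdy J.cocomplex p ((φ.f p).app (f ⁻¹ᵁ W'') z''.1) := by
      have hb2 : Cocyc.Bdy J.cocomplex p (Cocyc.rs (f.preimage_mono hW'')
          (Cocyc.rs (f.preimage_mono i.le) ((φ.f p).app (f ⁻¹ᵁ W) z))) := hb
      rw [Cocyc.rs_rs] at hb2
      rwa [Cocyc.app_rs]
    have hzero : cocClass I p _ z'' = 0 := by
      rw [← cocClass_app φ hφ, cocClass_eq_zero_iff]; exact hb'
    have hcl : Cocyc.hcls (pushCx f I.cocomplex) p (V := W'') z''.1 z''.2 = 0 :=
      Cocyc.hcls_eq_zero_of_bdy (pushCx f I.cocomplex) p (V := W'') z''.1 z''.2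
        ((cocClass_eq_zero_iff I p _ z'').1 hzero)
    rw [← es, ← TopCat.Presheaf.germ_res_apply ((pushCx f I.cocomplex).homology p).presheaf
      (homOfLE h₂) x hxW'']
    refine Eq.trans (congrArg _ ?_) (map_zero _)
    exact ((Cocyc.hcls_rs (pushCx f I.cocomplex) p (V := W) h₂ z hz)).symm.trans hcl
  · obtain ⟨U, hx, s, rfl⟩ := TopCat.Presheaf.exists_germ_eq _ e
    obtain ⟨W, hWU, hxW, z, hz, hzs⟩ :=
      Cocyc.exists_hcls_local (pushCx f J.cocomplex) p (V := U) s x hx
    obtain ⟨z₀, hz₀⟩ := cocClass_surjective I p (f ⁻¹ᵁ W) (cocClass J p _ ⟨z, hz⟩)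
    rw [← cocClass_app φ hφ] at hz₀
    refine ⟨((pushCx f I.cocomplex).homology p).presheaf.germ W x hxW
      (Cocyc.hcls (pushCx f I.cocomplex) p (V := W) z₀.1 z₀.2), ?_⟩
    rw [QCoh.stalkLin_germ, hnat, hcls_eq_of_cocClass_eq f J p _ _ hz₀,
      ← TopCat.Presheaf.germ_res_apply ((pushCx f J.cocomplex).homology p).presheaf
        (homOfLE hWU) x hxW s]
    exact congrArg _ hzs

/-- Higher direct images of modules from any flasque resolution. -/
theorem nonempty_Rpush_iso (f : X ⟶ S) [HasInjectiveResolutions X.Modules] (I : FlRes M) (p : ℕ) :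
    Nonempty ((Coh.Rpush f p).obj M ≅ (pushCx f I.cocomplex).homology p) := by
  obtain ⟨φ, hφ⟩ := exists_hom_ofInjective I (injectiveResolution M)
  have := isIso_homologyMap_pushCx f φ hφ p
  exact ⟨rpushIso f M p ≪≫ (asIso (HomologicalComplex.homologyMap
    (((Scheme.Modules.pushforward f).mapHomologicalComplex _).map φ) p)).symm⟩

/-- `R^p g_* (f_* M) ≅ R^p (g ∘ f)_* M` as modules, for `f` affine. -/
theorem nonempty_Rpush_pushforward_iso {T : Scheme.{u}} (f : X ⟶ S) [IsAffineHom f] (g : S ⟶ T)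
    [HasInjectiveResolutions X.Modules] [HasInjectiveResolutions S.Modules] (M : X.Modules)
    [M.IsQuasicoherent] (p : ℕ) :
    Nonempty ((Coh.Rpush g p).obj ((Scheme.Modules.pushforward f).obj M) ≅
      (Coh.Rpush (f ≫ g) p).obj M) := by
  obtain ⟨I⟩ := nonempty_flRes' M
  obtain ⟨J, hJ⟩ := nonempty_flRes_push f I
  obtain ⟨e₁⟩ := nonempty_Rpush_iso g J p
  obtain ⟨e₂⟩ := nonempty_Rpush_iso (f ≫ g) I p
  rw [hJ] at e₁
  exact ⟨e₁ ≪≫ e₂.symm⟩

end GrothLib.Cohom
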