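import Groth.Agent.Lib.Cohom.PushCompare
import Mathlib.CategoryTheory.Sites.Pullback

/-!
# Cohomology on an open subspace
-/

universe u

open CategoryTheory CategoryTheory.Limits Opposite TopologicalSpace Abelian Topology

namespace GrothLib.Cohom

variable {X Y : TopCat.{u}} {j : X ⟶ Y} (hj : IsOpenEmbedding j)

/-- Restriction of abelian sheaves along an open embedding. -/
noncomputable abbrev restrFun : AbSheaf Y ⥤ AbSheaf X :=
  haveI := hj.functor_isContinuous
  hj.isOpenMap.functor.sheafPushforwardContinuous AddCommGrpCat.{u}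
    (Opens.grothendieckTopology X) (Opens.grothendieckTopology Y)

theorem restrFun_preservesFiniteLimits : PreservesFiniteLimits (restrFun hj) := by
  have := hj.functor_isContinuous
  have : PreservesLimitsOfSize.{0, 0} (restrFun hj) :=
    (hj.isOpenMap.functor.sheafAdjunctionContinuous AddCommGrpCat.{u}
      (Opens.grothendieckTopology X) (Opens.grothendieckTopology Y)).rightAdjoint_preservesLimits
  exact PreservesLimitsOfSize.preservesFiniteLimits.{0, 0} _

theorem restrFun_map_shortExact {S : ShortComplex (AbSheaf Y)} (hS : S.ShortExact) :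
    (S.map (restrFun hj)).ShortExact := by
  have := hS.mono_f
  have := hS.epi_g
  have := restrFun_preservesFiniteLimits hj
  refine { exact := ?_, mono_f := ?_, epi_g := ?_ }
  · exact ShortComplex.exact_of_f_is_kernel _
      (isLimitForkMapOfIsLimit' (restrFun hj) S.zero hS.fIsKernel)
  · exact inferInstanceAs (Mono ((restrFun hj).map S.f))
  · refine (TopCat.Sheaf.isLocallySurjective_iff_epi (X := X) _).1 ?_
    refine (TopCat.Presheaf.isLocallySurjective_iff _).2 fun U t p hp ↦ ?_
    have h := (TopCat.Sheaf.isLocallySurjective_iff_epi (X := Y) S.g).2 ‹_›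
    obtain ⟨V, hV, ⟨s, hs⟩, hpV⟩ := (TopCat.Presheaf.isLocallySurjective_iff _).1 h
      (hj.isOpenMap.functor.obj U) t (j p) ⟨p, hp, rfl⟩
    have hle : (Opens.map j).obj V ≤ U := fun q hq ↦ by
      obtain ⟨q', hq', e⟩ := hV hq
      exact hj.injective e ▸ hq'
    have hle' : hj.isOpenMap.functor.obj ((Opens.map j).obj V) ≤ V := fun _ ⟨q, hq, e⟩ ↦ e ▸ hq
    refine ⟨(Opens.map j).obj V, hle, ⟨S.X₂.obj.map (homOfLE hle').op s, ?_⟩, hpV⟩
    refine ((ConcreteCategory.congr_hom (S.g.hom.naturality (homOfLE hle').op) s).trans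
      (congrArg (fun x ↦ (ConcreteCategory.hom (S.X₃.obj.map (homOfLE hle').op)) x) hs)).trans ?_
    exact (ConcreteCategory.congr_hom (S.X₃.obj.map_comp _ _) t).symm

theorem subsingleton_ext_restrFun_of_injective (I : AbSheaf Y) (hI : Injective I) (V : Opens X)
    (n : ℕ) : Subsingleton (Ext.{u} (freeFun.obj V) ((restrFun hj).obj I) (n + 1)) := by
  have h : TopCat.Sheaf.IsFlasque I := SheafCoh.isFlasque_of_injective I
  have : TopCat.Sheaf.IsFlasque ((restrFun hj).obj I) :=
    ⟨fun i ↦ h.epi (hj.isOpenMap.functor.op.map i)⟩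
  exact SheafCoh.flasque_HU_subsingleton ((restrFun hj).obj I) n V

/-- The natural comparison `H^n(j V, F) = H^n(V, F|_X)`. -/
theorem nonempty_comparison_restrFun (V : Opens X) (n : ℕ) :
    Nonempty (DimShift.Comparison.{u} (restrFun hj) (freeFun.obj (hj.isOpenMap.functor.obj V))
      (freeFun.obj V) (fun _ ↦ True) n) := by
  refine DimShift.nonempty_comparison (restrFun hj) _ _ _ (fun _ _ ↦ trivial)
    (fun S hS _ _ ↦ ⟨trivial, restrFun_map_shortExact hj hS⟩)
    (fun I hI n ↦ subsingleton_ext_restrFun_of_injective hj I hI V n)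
    (fun F ↦ (sectionsAddEquiv _ F).trans (sectionsAddEquiv V ((restrFun hj).obj F)).symm)
    (fun {F F'} φ a ↦ ?_) n
  apply (sectionsAddEquiv V ((restrFun hj).obj F')).injective
  refine ((sectionsAddEquiv V ((restrFun hj).obj F')).apply_symm_apply _).trans ?_
  refine (sectionsEquiv_comp a φ).trans
    (Eq.trans ?_ (sectionsEquiv_comp _ ((restrFun hj).map φ)).symm)
  exact congrArg _ ((sectionsEquiv V ((restrFun hj).obj F)).apply_symm_apply _).symm

end GrothLib.Cohom
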