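import Mathlib.Algebra.Homology.DerivedCategory.Ext.ExactSequences
import Mathlib.Algebra.Homology.DerivedCategory.Ext.EnoughInjectives

/-!
# Comparing `Ext` groups along a functor by dimension shifting

`G : C ⥤ D` with a natural bijection `Hom(A, F) ≃ Hom(B, G F)` induces natural isomorphisms
`Ext^n(A, F) ≃ Ext^n(B, G F)` on any class of objects stable under cokernels into injectives on
which `G` is exact, when `G` of an injective is acyclic for `B`.
-/

universe u v w w'

open CategoryTheory CategoryTheory.Limits Abelian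

namespace GrothLib.DimShift

variable {C : Type w} [Category.{v} C] [Abelian C] [HasExt.{u} C]

/-- Two quotients of isomorphic groups by corresponding subgroups. -/
theorem exists_equiv_of_ker {G H G' H' : Type*} [AddCommGroup G] [AddCommGroup H] [AddCommGroup G']
    [AddCommGroup H'] (f : G →+ H) (hf : Function.Surjective f) (f' : G' →+ H')
    (hf' : Function.Surjective f') (e : G ≃+ G') (h : ∀ x, f x = 0 ↔ f' (e x) = 0) :
    ∃ e' : H ≃+ H', ∀ x, e' (f x) = f' (e x) := by
  let g := Function.surjInv hf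
  have key : ∀ x y, f x = f y → f' (e x) = f' (e y) := fun x y hxy ↦ by
    rw [← sub_eq_zero, ← map_sub, ← map_sub]
    exact (h _).1 (by rw [map_sub, hxy, sub_self])
  have hg : ∀ x, f (g x) = x := Function.surjInv_eq hf
  let φ : H →+ H' := AddMonoidHom.mk' (fun b ↦ f' (e (g b))) fun a b ↦ by
    rw [← map_add, ← map_add]
    exact key _ _ (by simp [hg])
  have hφ : ∀ x, φ (f x) = f' (e x) := fun x ↦ key _ _ (hg _)
  refine ⟨AddEquiv.ofBijective φ ⟨?_, fun b ↦ ?_⟩, hφ⟩
  · rw [injective_iff_map_eq_zero]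
    intro a ha
    rw [← hg a]
    exact (h _).2 ha
  · obtain ⟨y, rfl⟩ := hf' b
    exact ⟨f (e.symm y), by rw [hφ, e.apply_symm_apply]⟩

/-- The connecting map commutes with morphisms of short exact sequences. -/
theorem connecting_naturality {S S' : ShortComplex C} (hS : S.ShortExact) (hS' : S'.ShortExact)
    (α : S ⟶ S') (X : C) {n : ℕ} (y : Ext.{u} X S.X₃ n) :
    (y.comp hS.extClass rfl).comp (Ext.mk₀ α.τ₁) (add_zero (n + 1)) =
      (y.comp (Ext.mk₀ α.τ₃) (add_zero n)).comp hS'.extClass rfl := by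
  rw [Ext.comp_assoc_of_third_deg_zero, Ext.comp_assoc_of_second_deg_zero,
    ShortComplex.ShortExact.extClass_naturality hS hS' α]

/-- The image of the middle term is killed by the connecting map. -/
theorem connecting_comp_eq_zero {S : ShortComplex C} (hS : S.ShortExact) (X : C) {n : ℕ}
    (z : Ext.{u} X S.X₂ n) :
    (z.comp (Ext.mk₀ S.g) (add_zero n)).comp hS.extClass rfl = (0 : Ext.{u} X S.X₁ (n + 1)) := by
  rw [Ext.comp_assoc_of_second_deg_zero, hS.comp_extClass, Ext.comp_zero]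

variable {D : Type w'} [Category.{v} D] [Abelian D] [HasExt.{u} D]

/-- A natural family of comparisons `Ext^n(A, F) ≃ Ext^n(B, G F)` on the class `P`. -/
structure Comparison (G : C ⥤ D) (A : C) (B : D) (P : C → Prop) (n : ℕ) where
  /-- The isomorphisms. -/
  equiv : ∀ F, P F → (Ext.{u} A F n ≃+ Ext.{u} B (G.obj F) n)
  naturality : ∀ {F F' : C} (φ : F ⟶ F') (hF : P F) (hF' : P F') (x : Ext.{u} A F n),
    equiv F' hF' (x.comp (Ext.mk₀ φ) (add_zero n)) =
      (equiv F hF x).comp (Ext.mk₀ (G.map φ)) (add_zero n)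

variable [EnoughInjectives C] (G : C ⥤ D) [G.PreservesZeroMorphisms] (A : C) (B : D) (P : C → Prop)

/-- The comparison in all degrees from degree zero. -/
theorem nonempty_comparison (hinj : ∀ I : C, Injective I → P I)
    (hP : ∀ S : ShortComplex C, S.ShortExact → Injective S.X₂ → P S.X₁ →
      P S.X₃ ∧ (S.map G).ShortExact)
    (hI : ∀ I : C, Injective I → ∀ n, Subsingleton (Ext.{u} B (G.obj I) (n + 1)))
    (e : ∀ F, (A ⟶ F) ≃+ (B ⟶ G.obj F))
    (he : ∀ {F F' : C} (φ : F ⟶ F') (a : A ⟶ F), e F' (a ≫ φ) = e F a ≫ G.map φ) (n : ℕ) :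
    Nonempty (Comparison.{u} G A B P n) := by
  induction n with
  | zero =>
    refine ⟨⟨fun F _ ↦ Ext.addEquiv₀.trans ((e F).trans Ext.addEquiv₀.symm), fun {F F'} φ _ _ x ↦ ?_⟩⟩
    obtain ⟨a, rfl⟩ := (Ext.mk₀_bijective _ _).surjective x
    have h₀ : ∀ (F : C) (a : A ⟶ F),
        (Ext.addEquiv₀.trans ((e F).trans Ext.addEquiv₀.symm)) (Ext.mk₀ a) = Ext.mk₀ (e F a) :=
      fun F a ↦ congrArg (fun t ↦ Ext.mk₀ (e F t)) (Ext.addEquiv₀.apply_symm_apply a)
    rw [Ext.mk₀_comp_mk₀, h₀, h₀, Ext.mk₀_comp_mk₀, he]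
  | succ n ih =>
    obtain ⟨c⟩ := ih
    let S (F : C) : ShortComplex C :=
      ShortComplex.mk (Injective.ι F) (cokernel.π (Injective.ι F)) (cokernel.condition _)
    have hS (F : C) : (S F).ShortExact := { exact := ShortComplex.exact_cokernel _ }
    have hSi (F : C) : Injective (S F).X₂ := inferInstanceAs (Injective (Injective.under F))
    have hS₃ (F : C) (hF : P F) : P (S F).X₃ := (hP (S F) (hS F) (hSi F) hF).1
    have hS' (F : C) (hF : P F) : ((S F).map G).ShortExact := (hP (S F) (hS F) (hSi F) hF).2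
    let δ (F : C) : Ext.{u} A (S F).X₃ n →+ Ext.{u} A F (n + 1) :=
      (hS F).extClass.postcomp A rfl
    let δ' (F : C) (hF : P F) : Ext.{u} B (G.obj (S F).X₃) n →+ Ext.{u} B (G.obj F) (n + 1) :=
      (hS' F hF).extClass.postcomp B rfl
    have hδ (F : C) : Function.Surjective (δ F) := fun x ↦ by
      obtain ⟨y, hy⟩ := Ext.covariant_sequence_exact₁ A (hS F) x
        (have := hSi F; Ext.eq_zero_of_injective _) rfl
      exact ⟨y, hy⟩
    have hδ' (F : C) (hF : P F) : Function.Surjective (δ' F hF) := fun x ↦ by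
      have := hI _ (hSi F) n
      obtain ⟨y, hy⟩ := Ext.covariant_sequence_exact₁ B (hS' F hF) x
        (Subsingleton.elim (α := Ext.{u} B (G.obj (S F).X₂) (n + 1)) _ _) rfl
      exact ⟨y, hy⟩
    have hker (F : C) (hF : P F) (x : Ext.{u} A (S F).X₃ n) :
        δ F x = 0 ↔ δ' F hF (c.equiv _ (hS₃ F hF) x) = 0 := by
      constructor <;> intro h
      · obtain ⟨z, rfl⟩ := Ext.covariant_sequence_exact₃ A (hS F) x rfl h
        rw [c.naturality (S F).g (hinj _ (hSi F))]
        exact connecting_comp_eq_zero (hS' F hF) B _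
      · obtain ⟨z, hz⟩ := Ext.covariant_sequence_exact₃ B (hS' F hF) _ rfl h
        obtain ⟨z, rfl⟩ := (c.equiv _ (hinj _ (hSi F))).surjective z
        erw [← c.naturality (S F).g (hinj _ (hSi F)) (hS₃ F hF)] at hz
        obtain rfl := (c.equiv _ _).injective hz
        exact connecting_comp_eq_zero (hS F) A _
    choose E hE using fun F hF ↦
      exists_equiv_of_ker (δ F) (hδ F) (δ' F hF) (hδ' F hF) (c.equiv _ (hS₃ F hF)) (hker F hF)
    refine ⟨⟨E, fun {F F'} φ hF hF' x ↦ ?_⟩⟩
    obtain ⟨y, rfl⟩ := hδ F x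
    have := (hS F).mono_f
    have := hSi F'
    have hι : φ ≫ (S F').f = (S F).f ≫ Injective.factorThru (φ ≫ (S F').f) (S F).f :=
      (Injective.comp_factorThru _ _).symm
    let χ : (S F).X₃ ⟶ (S F').X₃ :=
      cokernel.map _ _ φ (Injective.factorThru (φ ≫ (S F').f) (S F).f) hι.symm
    let α : S F ⟶ S F' :=
      { τ₁ := φ
        τ₂ := Injective.factorThru (φ ≫ (S F').f) (S F).f
        τ₃ := χ
        comm₁₂ := hι
        comm₂₃ := (cokernel.π_desc _ _ _).symm }
    have h₁ : (δ F y).comp (Ext.mk₀ φ) (add_zero (n + 1)) =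
        δ F' (y.comp (Ext.mk₀ χ) (add_zero n)) :=
      connecting_naturality (hS F) (hS F') α A y
    have h₂ : (δ' F hF (c.equiv _ (hS₃ F hF) y)).comp (Ext.mk₀ (G.map φ)) (add_zero (n + 1)) =
        δ' F' hF' ((c.equiv _ (hS₃ F hF) y).comp (Ext.mk₀ (G.map χ)) (add_zero n)) :=
      connecting_naturality (hS' F hF) (hS' F' hF') (G.mapShortComplex.map α) B _
    rw [hE F hF, h₂, h₁, hE F' hF', c.naturality χ (hS₃ F hF) (hS₃ F' hF')]

end GrothLib.DimShift
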