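import Groth.Agent.Lib.Cohom.Vanishing
import Groth.Agent.Lib.SheafCoh.TopPush
import Mathlib.AlgebraicGeometry.Morphisms.QuasiSeparated

/-!
# Uniform vanishing of cohomology on preimages of affine opens
-/

universe u

open CategoryTheory CategoryTheory.Limits Opposite TopologicalSpace AlgebraicGeometry Abelian

namespace GrothLib.Cohom

variable {X S : Scheme.{u}} (f : X ⟶ S)

theorem isAffineOpen_inf_preimage {B : X.Opens} (hB : IsAffineOpen B) {V₀ : S.Opens}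
    (hV₀ : IsAffineOpen V₀) (hBV : B ≤ f ⁻¹ᵁ V₀) {V : S.Opens} (hV : IsAffineOpen V) (hVV₀ : V ≤ V₀) :
    IsAffineOpen (B ⊓ f ⁻¹ᵁ V) := by
  have : IsAffine B := hB
  have : IsAffine V₀ := hV₀
  have hV' : IsAffineOpen (V₀.ι ⁻¹ᵁ V) := by
    rw [← Scheme.Hom.isAffineOpen_iff_of_isOpenImmersion V₀.ι,
      Scheme.Hom.image_preimage_eq_opensRange_inf, Scheme.Opens.opensRange_ι, inf_eq_right.2 hVV₀]
    exact hV
  have h := (hV'.preimage (f.resLE V₀ B hBV)).image_of_isOpenImmersion B.ι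
  rwa [← Scheme.Hom.comp_preimage, Scheme.Hom.resLE_comp_ι, Scheme.Hom.comp_preimage,
    Scheme.Hom.image_preimage_eq_opensRange_inf, Scheme.Opens.opensRange_ι] at h

theorem isAffineOpen_inf_of_le {B U₁ U₂ : X.Opens} (hB : IsAffineOpen B) (h₁ : IsAffineOpen U₁)
    (h₂ : IsAffineOpen U₂) (hle₁ : U₁ ≤ B) (hle₂ : U₂ ≤ B) : IsAffineOpen (U₁ ⊓ U₂) := by
  have := isAffineOpen_inf_preimage (𝟙 X) h₁ hB hle₁ h₂ hle₂
  rwa [Scheme.Hom.id_preimage] at this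

theorem exists_vanishFrom_inf_preimage_of_le_affine {V₀ : S.Opens} (hV₀ : IsAffineOpen V₀)
    {B : X.Opens} (hB : IsAffineOpen B) (hBV : B ≤ f ⁻¹ᵁ V₀) {T : X.Opens} (hTB : T ≤ B)
    (hT : IsCompact (T : Set X)) :
    ∃ d, ∀ (V : S.Opens), IsAffineOpen V → V ≤ V₀ → ∀ (N : X.Modules) [N.IsQuasicoherent],
      VanishFrom (Coh.toAb N) (T ⊓ f ⁻¹ᵁ V) d := by
  obtain ⟨ι, _, U, hUA, hUT, hTU⟩ := QCoh.exists_finite_affine_cover hT
  refine ⟨Fintype.card ι, fun V hV hVV₀ N _ ↦ ?_⟩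
  let e := (Fintype.equivFin ι).symm
  have h := vanishFrom_iSup N (fun W ↦ IsAffineOpen W ∧ W ≤ B) (fun _ h ↦ h.1)
    (fun U₁ U₂ h₁ h₂ ↦ ⟨isAffineOpen_inf_of_le hB h₁.1 h₂.1 h₁.2 h₂.2, inf_le_left.trans h₁.2⟩) _
    (fun i ↦ U (e i) ⊓ f ⁻¹ᵁ V)
    fun i ↦ ⟨isAffineOpen_inf_preimage f (hUA _) hV₀ (((hUT _).trans hTB).trans hBV) hV hVV₀,
      inf_le_left.trans ((hUT _).trans hTB)⟩
  rwa [← iSup_inf_eq, show (⨆ i, U (e i)) = T from (e.iSup_comp (g := U)).trans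
    (le_antisymm (iSup_le hUT) hTU)] at h

theorem exists_vanishFrom_preimage [QuasiCompact f] [QuasiSeparated f] {V₀ : S.Opens}
    (hV₀ : IsAffineOpen V₀) :
    ∃ d, ∀ (V : S.Opens), IsAffineOpen V → V ≤ V₀ → ∀ (N : X.Modules) [N.IsQuasicoherent],
      VanishFrom (Coh.toAb N) (f ⁻¹ᵁ V) d := by
  suffices ∀ T : X.Opens, IsCompact (T : Set X) → T ≤ f ⁻¹ᵁ V₀ →
      ∃ d, ∀ (V : S.Opens), IsAffineOpen V → V ≤ V₀ → ∀ (N : X.Modules) [N.IsQuasicoherent],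
        VanishFrom (Coh.toAb N) (T ⊓ f ⁻¹ᵁ V) d by
    obtain ⟨d, hd⟩ := this (f ⁻¹ᵁ V₀)
      (QuasiCompact.isCompact_preimage (f := f) _ V₀.2 hV₀.isCompact) le_rfl
    refine ⟨d, fun V hV hle N _ ↦ ?_⟩
    have := hd V hV hle N
    rwa [inf_eq_right.2 (f.preimage_mono hle)] at this
  intro T hT
  refine compact_open_induction_on T hT (fun _ ↦ ⟨0, fun V _ _ N _ ↦ ?_⟩) fun T hT U ih hle ↦ ?_
  · rw [bot_inf_eq]; exact vanishFrom_bot _ _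
  obtain ⟨d, hd⟩ := ih (le_sup_left.trans hle)
  have hUle : U.1 ≤ f ⁻¹ᵁ V₀ := le_sup_right.trans hle
  have hqs : IsQuasiSeparated ((f ⁻¹ᵁ V₀ : X.Opens) : Set X) :=
    f.isQuasiSeparated_preimage hV₀.isQuasiSeparated
  obtain ⟨e, he⟩ := exists_vanishFrom_inf_preimage_of_le_affine f hV₀ U.2 hUle
    (inf_le_right : T ⊓ U.1 ≤ U.1)
    (hqs (T : Set X) (U.1 : Set X) (le_sup_left.trans hle) T.2 hT hUle U.1.2 U.2.isCompact)
  refine ⟨max d e + 1, fun V hV hV' N _ ↦ ?_⟩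
  rw [inf_sup_right]
  refine ((hd V hV hV' N).mono (by omega)).sup
    ((vanishFrom_affine N (isAffineOpen_inf_preimage f U.2 hV₀ hUle hV hV')).mono (by omega)) ?_
    (le_max_right d e)
  rw [inf_inf_inf_comm, inf_idem]
  exact he V hV hV' N

/-- `R^n f_*` vanishes when `H^n` vanishes on the preimages of a basis. -/
theorem isZero_RpushAb_of_basis (F : AbSheaf X) (n : ℕ) {B : Set (Opens S)}
    (hB : Opens.IsBasis B) (h : ∀ W ∈ B, Subsingleton (Ext.{u} (freeFun.obj (f ⁻¹ᵁ W)) F n)) :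
    IsZero ((Coh.RpushAb f n).obj F) := by
  refine IsZero.of_iso ?_ (SheafCoh.topRpushIso f.base F n)
  refine SheafCoh.isZero_sheafify_of_res_locally_zero _ fun U x ↦ ?_
  refine ⟨⟨fun V _ ↦ ∃ W ∈ B, V ≤ W ∧ W ≤ U, fun {V V'} _ ⟨W, hW, h₁, h₂⟩ g ↦
    ⟨W, hW, g.le.trans h₁, h₂⟩⟩, fun p hp ↦ ?_, fun V i ⟨W, hW, h₁, h₂⟩ ↦ ?_⟩
  · obtain ⟨W, hW, hpW, hWU⟩ := Opens.isBasis_iff_nbhd.1 hB hp
    exact ⟨W, homOfLE hWU, ⟨W, hW, le_rfl, hWU⟩, hpW⟩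
  · rw [show i = homOfLE h₁ ≫ homOfLE h₂ from Subsingleton.elim _ _, op_comp, Functor.map_comp,
      ConcreteCategory.comp_apply]
    have := h W hW
    rw [Subsingleton.elim (α := Ext.{u} (freeFun.obj (f ⁻¹ᵁ W)) F n)
      ((((Opens.map f.base).op ⋙ Sheaf.cohomologyPresheaf.{u} F n).map (homOfLE h₂).op) x) 0]
    exact map_zero _

end GrothLib.Cohom
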