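import Groth.Agent.Lib.Cohom.Vanishing
import Groth.Agent.Lib.Cech.Opens
import Groth.Prelude.Def_CohB1

/-!
# Čech cohomology computes cohomology of quasi-coherent modules
-/

universe u

open CategoryTheory CategoryTheory.Limits Opposite TopologicalSpace AlgebraicGeometry Abelian

namespace GrothLib.Cohom

variable {X : Scheme.{u}}

/-- Čech cohomology of a quasi-coherent module for opens with affine intersections. -/
theorem nonempty_cechH_equiv {ι : Type u} (U : ι → X.Opens) (M : X.Modules) [M.IsQuasicoherent]
    (hU : ∀ (p : ℕ) (a : Fin (p + 1) → ι), IsAffineOpen (⨅ k, U (a k))) (p : ℕ) :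
    Nonempty (CohB1.cechH U M p ≃+ Ext.{u} (freeFun.obj (iSup U)) (Coh.toAb M) p) := by
  exact Cech.nonempty_cechH_addEquiv (X := X.carrier) U (Coh.toAb M)
    (fun p a q ↦ subsingleton_ext_freeFun_of_isAffineOpen (hU p a) M q) p

end GrothLib.Cohom
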