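import Groth.Agent.Lib.Cohom.DimShift
import Groth.Agent.Lib.Cohom.DerivedClass
import Mathlib.Algebra.Homology.DerivedCategory.Ext.ExactSequences

/-!
# Iterated connecting classes of a resolution

For an exact complex `K` with objects acyclic for `A`, composing the classes of
`0 → Z^p → K^p → Z^(p+1) → 0` computes `Ext^p(A, Z^0)` from `Hom(A, Z^p)`.
-/

universe u v w

open CategoryTheory CategoryTheory.Limits Abelian

namespace GrothLib.ClassChain

variable {C : Type w} [Category.{v} C] [Abelian C] [HasExt.{u} C]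

/-- The cycles. -/
noncomputable abbrev Z (K : CochainComplex C ℕ) (p : ℕ) : C := kernel (K.d p (p + 1))

variable {K : CochainComplex C ℕ}
  (hK : ∀ n, (ShortComplex.mk _ _ (K.d_comp_d n (n + 1) (n + 2))).Exact)

/-- The composite of the connecting classes from `Z^p` to `Z^0`. -/
noncomputable def cls : (p : ℕ) → Ext.{u} (Z K p) (Z K 0) p
  | 0 => Ext.mk₀ (𝟙 _)
  | p + 1 => Ext.comp (C := C) (X := Z K (p + 1)) (Y := Z K p)
      (DimShift.cyclesSC_shortExact K p (hK p)).extClass (cls p) (Nat.add_comm 1 p)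

theorem cls_zero : cls hK 0 = Ext.mk₀ (𝟙 _) := rfl

theorem cls_succ (p : ℕ) : cls hK (p + 1) =
    Ext.comp (C := C) (X := Z K (p + 1)) (Y := Z K p)
      (DimShift.cyclesSC_shortExact K p (hK p)).extClass (cls hK p) (Nat.add_comm 1 p) := rfl

theorem comp_cls_succ {A : C} (p j : ℕ) (x : Ext.{u} A (Z K (p + 1)) j) {m : ℕ} (hm : j + (p + 1) = m) :
    x.comp (cls hK (p + 1)) hm =
      (x.comp (DimShift.cyclesSC_shortExact K p (hK p)).extClass (rfl : j + 1 = j + 1)).comp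
        (cls hK p) (by omega) := by
  rw [cls_succ, Ext.comp_assoc]
  omega

variable {A : C} (hA : ∀ n j, Subsingleton (Ext.{u} A (K.X n) (j + 1)))

include hA in
theorem comp_cls_bijective (p : ℕ) (j : ℕ) {m : ℕ} (hm : j + 1 + p = m) :
    Function.Bijective fun x : Ext.{u} A (Z K p) (j + 1) ↦ x.comp (cls hK p) hm := by
  induction p generalizing j m with
  | zero =>
    obtain rfl : j + 1 = m := by omega
    simp only [cls_zero, Ext.comp_mk₀_id]
    exact Function.bijective_id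
  | succ p ih =>
    have hS := DimShift.cyclesSC_shortExact K p (hK p)
    refine ⟨fun x y h ↦ ?_, fun z ↦ ?_⟩
    · simp only [comp_cls_succ] at h
      have h2 := (ih (j + 1) (m := m) (by omega)).1 h
      refine sub_eq_zero.1 ?_
      obtain ⟨w, hw⟩ := Ext.covariant_sequence_exact₃ A hS (x - y) rfl
        (by rw [sub_eq_add_neg, Ext.add_comp, Ext.neg_comp, ← sub_eq_add_neg, sub_eq_zero]; exact h2)
      rw [← hw, @Subsingleton.elim _ (hA p j) w 0, Ext.zero_comp]
    · obtain ⟨y, rfl⟩ := (ih (j + 1) (m := m) (by omega)).2 z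
      obtain ⟨x, rfl⟩ := Ext.covariant_sequence_exact₁ A hS y (@Subsingleton.elim _ (hA p (j + 1)) _ _) rfl
      exact ⟨x, comp_cls_succ hK p _ x _⟩

/-- The class of a map into the cycles. -/
noncomputable def mapCls (A : C) (p : ℕ) : (A ⟶ Z K p) →+ Ext.{u} A (Z K 0) p :=
  AddMonoidHom.mk' (fun φ ↦ (Ext.mk₀ φ).comp (cls hK p) (zero_add p)) fun a b ↦ by
    rw [Ext.mk₀_add, Ext.add_comp]

theorem mapCls_apply (p : ℕ) (φ : A ⟶ Z K p) :
    mapCls hK A p φ = (Ext.mk₀ φ).comp (cls hK p) (zero_add p) := rfl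

theorem mapCls_zero (φ : A ⟶ Z K 0) : mapCls hK A 0 φ = Ext.mk₀ φ := by
  rw [mapCls_apply, cls_zero, Ext.comp_mk₀_id]

include hA in
theorem mapCls_surjective (p : ℕ) : Function.Surjective (mapCls hK A p) := by
  intro z
  obtain _ | p := p
  · obtain ⟨φ, rfl⟩ := (Ext.mk₀_bijective _ _).surjective z
    exact ⟨φ, mapCls_zero hK φ⟩
  · obtain ⟨y, rfl⟩ := (comp_cls_bijective hK hA p 0 (m := p + 1) (by omega)).2 z
    obtain ⟨x, rfl⟩ := Ext.covariant_sequence_exact₁ A (DimShift.cyclesSC_shortExact K p (hK p)) y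
      (@Subsingleton.elim _ (hA p 0) _ _) rfl
    obtain ⟨φ, rfl⟩ := (Ext.mk₀_bijective _ _).surjective x
    exact ⟨φ, comp_cls_succ hK p 0 _ (zero_add _)⟩

include hA in
theorem mapCls_eq_zero_iff (p : ℕ) (φ : A ⟶ Z K (p + 1)) :
    mapCls hK A (p + 1) φ = 0 ↔ ∃ ψ : A ⟶ K.X p, ψ ≫ (DimShift.cyclesSC K p).g = φ := by
  have hS := DimShift.cyclesSC_shortExact K p (hK p)
  rw [mapCls_apply, comp_cls_succ]
  constructor
  · intro h
    have h2 : (Ext.mk₀ φ).comp hS.extClass rfl = 0 :=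
      (comp_cls_bijective hK hA p 0 (m := p + 1) (by omega)).1 (h.trans (Ext.zero_comp ..).symm)
    obtain ⟨w, hw⟩ := Ext.covariant_sequence_exact₃ A hS (Ext.mk₀ φ) rfl h2
    obtain ⟨ψ, rfl⟩ := (Ext.mk₀_bijective _ _).surjective w
    rw [Ext.mk₀_comp_mk₀] at hw
    exact ⟨ψ, (Ext.mk₀_bijective _ _).injective hw⟩
  · rintro ⟨ψ, rfl⟩
    rw [← Ext.mk₀_comp_mk₀, Ext.comp_assoc_of_second_deg_zero, hS.comp_extClass, Ext.comp_zero,
      Ext.zero_comp]

theorem mapCls_precomp {B : C} (a : B ⟶ A) (p : ℕ) (φ : A ⟶ Z K p) :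
    mapCls hK B p (a ≫ φ) = (Ext.mk₀ a).comp (mapCls hK A p φ) (zero_add p) := by
  rw [mapCls_apply, mapCls_apply, ← Ext.mk₀_comp_mk₀]
  exact Ext.comp_assoc _ _ _ _ _ (by omega)

/-- The map on cycles of an endomorphism. -/
noncomputable abbrev zMap (θ : K ⟶ K) (p : ℕ) : Z K p ⟶ Z K p :=
  kernel.map _ _ (θ.f p) (θ.f (p + 1)) (θ.comm p (p + 1)).symm

theorem zMap_comp_cls (θ : K ⟶ K) (p : ℕ) :
    (Ext.mk₀ (zMap θ p)).comp (cls hK p) (zero_add p) =
      (cls hK p).comp (Ext.mk₀ (zMap θ 0)) (add_zero p) := by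
  induction p with
  | zero => simp [cls_zero]
  | succ p ih =>
    have hS := DimShift.cyclesSC_shortExact K p (hK p)
    let α : DimShift.cyclesSC K p ⟶ DimShift.cyclesSC K p :=
      { τ₁ := zMap θ p
        τ₂ := θ.f p
        τ₃ := zMap θ (p + 1)
        comm₁₂ := kernel.lift_ι _ _ _
        comm₂₃ := by
          apply equalizer.hom_ext
          simp [zMap, DimShift.cyclesSC] }
    have h := ShortComplex.ShortExact.extClass_naturality hS hS α
    rw [cls_succ, ← Ext.comp_assoc (a₁₂ := 1) _ _ _ (zero_add 1) (Nat.add_comm 1 p) (by omega)]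
    erw [← h]
    rw [Ext.comp_assoc_of_second_deg_zero]
    erw [ih]
    exact (Ext.comp_assoc _ _ _ _ _ (by omega)).symm

theorem mapCls_zMap (θ : K ⟶ K) (p : ℕ) (φ : A ⟶ Z K p) :
    mapCls hK A p (φ ≫ zMap θ p) =
      (mapCls hK A p φ).comp (Ext.mk₀ (zMap θ 0)) (add_zero p) := by
  rw [mapCls_apply, mapCls_apply, ← Ext.mk₀_comp_mk₀, Ext.comp_assoc_of_second_deg_zero,
    zMap_comp_cls]
  exact (Ext.comp_assoc _ _ _ _ _ (by omega)).symm

end GrothLib.ClassChain
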