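import Groth.Agent.Lib.QCoh.Qcqs
import Groth.Agent.Lib.QCoh.Coherent
import Groth.Agent.Lib.Cohom.UniformVanish
import Mathlib.Algebra.Homology.HomologicalComplex

/-!
# Localisation of the cohomology of a flasque complex on quasi-compact opens

For a complex `K` of `O_X`-modules with surjective restrictions, `Sep` and `Lift` say that the
cohomology of the complexes of sections on `W` and on `W ∩ X_g` differ by inverting `g`.
-/

universe u

open CategoryTheory CategoryTheory.Limits Opposite TopologicalSpace AlgebraicGeometry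
open GrothLib.Cohom (map_map_apply map_self_apply ringMap_map_apply)

namespace GrothLib.Cocyc

variable {X : Scheme.{u}}

/-- Restriction of sections. -/
noncomputable def rs {N : X.Modules} {V W : X.Opens} (h : W ≤ V) : Γ(N, V) →+ Γ(N, W) :=
  (N.presheaf.map (homOfLE h).op).hom

theorem rs_rs {N : X.Modules} {U V W : X.Opens} (h : V ≤ U) (h' : W ≤ V) (z : Γ(N, U)) :
    rs h' (rs h z) = rs (h'.trans h) z :=
  map_map_apply N (homOfLE h) (homOfLE h') z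

theorem rs_self {N : X.Modules} {V : X.Opens} (h : V ≤ V) (z : Γ(N, V)) : rs h z = z :=
  map_self_apply N (homOfLE h) z

theorem app_rs {M N : X.Modules} (φ : M ⟶ N) {V W : X.Opens} (h : W ≤ V) (z : Γ(M, V)) :
    φ.app W (rs h z) = rs h (φ.app V z) :=
  (QCoh.map_app φ (homOfLE h) z).symm

variable {U : X.Opens} (g : Γ(X, U))

/-- Multiplication by a power of `g`. -/
noncomputable def gp {N : X.Modules} {W : X.Opens} (hW : W ≤ U) (k : ℕ) : Γ(N, W) →+ Γ(N, W) :=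
  DistribSMul.toAddMonoidHom Γ(N, W) ((X.presheaf.map (homOfLE hW).op g) ^ k)

theorem gp_gp {N : X.Modules} {W : X.Opens} (hW : W ≤ U) (j k : ℕ) (z : Γ(N, W)) :
    gp g hW j (gp g hW k z) = gp g hW (j + k) z := by
  simp [gp, pow_add, mul_smul]

theorem gp_zero {N : X.Modules} {W : X.Opens} (hW : W ≤ U) (z : Γ(N, W)) : gp g hW 0 z = z := by
  simp [gp]

theorem rs_gp {N : X.Modules} {V W : X.Opens} (h : W ≤ V) (hV : V ≤ U) (k : ℕ) (z : Γ(N, V)) :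
    rs h (gp g hV k z) = gp g (h.trans hV) k (rs h z) := by
  simp only [gp, DistribSMul.toAddMonoidHom_apply, rs]
  erw [Scheme.Modules.map_smul]
  rw [map_pow, ringMap_map_apply]

theorem app_gp {M N : X.Modules} (φ : M ⟶ N) {W : X.Opens} (hW : W ≤ U) (k : ℕ) (z : Γ(M, W)) :
    φ.app W (gp g hW k z) = gp g hW k (φ.app W z) :=
  (QCoh.appLinear φ W).map_smul _ z

variable (K : CochainComplex X.Modules ℕ)

theorem d_d {p q r : ℕ} (W : X.Opens) (z : Γ(K.X p, W)) :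
    (K.d q r).app W ((K.d p q).app W z) = 0 := by
  rw [← ConcreteCategory.comp_apply, ← Scheme.Modules.Hom.comp_app, K.d_comp_d]
  rfl

/-- Cocycles. -/
def Coc (p : ℕ) {W : X.Opens} (z : Γ(K.X p, W)) : Prop := (K.d p (p + 1)).app W z = 0

/-- Coboundaries; in degree zero only `0`. -/
def Bdy (p : ℕ) {W : X.Opens} (z : Γ(K.X p, W)) : Prop :=
  ∃ w : Γ(K.X (p - 1), W), (K.d (p - 1) p).app W w = z

theorem bdy_zero_iff {W : X.Opens} (z : Γ(K.X 0, W)) : Bdy K 0 z ↔ z = 0 := by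
  have h : K.d (0 - 1) 0 = 0 := K.shape _ _ (by simp)
  constructor
  · rintro ⟨w, rfl⟩
    rw [h]; rfl
  · rintro rfl
    exact ⟨0, map_zero _⟩

theorem coc_d {p q : ℕ} {W : X.Opens} (z : Γ(K.X p, W)) : Coc K q ((K.d p q).app W z) :=
  d_d K W z

variable {K}

theorem Coc.zero {p : ℕ} {W : X.Opens} : Coc K p (0 : Γ(K.X p, W)) := map_zero _

theorem Coc.add {p : ℕ} {W : X.Opens} {a b : Γ(K.X p, W)} (ha : Coc K p a) (hb : Coc K p b) :
    Coc K p (a + b) := (map_add _ a b).trans (by rw [ha, hb, add_zero])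

theorem Coc.sub {p : ℕ} {W : X.Opens} {a b : Γ(K.X p, W)} (ha : Coc K p a) (hb : Coc K p b) :
    Coc K p (a - b) := (map_sub _ a b).trans (by rw [ha, hb, sub_zero])

theorem Coc.rs {p : ℕ} {V W : X.Opens} {z : Γ(K.X p, V)} (hz : Coc K p z) (h : W ≤ V) :
    Coc K p (rs h z) := (app_rs _ h z).trans (by rw [hz, map_zero])

theorem Coc.gp {p : ℕ} {W : X.Opens} {z : Γ(K.X p, W)} (hz : Coc K p z) (hW : W ≤ U) (k : ℕ) :
    Coc K p (gp g hW k z) := (app_gp g _ hW k z).trans (by rw [hz, map_zero])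

theorem Bdy.add {p : ℕ} {W : X.Opens} {a b : Γ(K.X p, W)} (ha : Bdy K p a) (hb : Bdy K p b) :
    Bdy K p (a + b) :=
  let ⟨x, hx⟩ := ha
  let ⟨y, hy⟩ := hb
  ⟨x + y, by rw [map_add, hx, hy]⟩

theorem Bdy.sub {p : ℕ} {W : X.Opens} {a b : Γ(K.X p, W)} (ha : Bdy K p a) (hb : Bdy K p b) :
    Bdy K p (a - b) :=
  let ⟨x, hx⟩ := ha
  let ⟨y, hy⟩ := hb
  ⟨x - y, by rw [map_sub, hx, hy]⟩

theorem Bdy.rs {p : ℕ} {V W : X.Opens} {z : Γ(K.X p, V)} (hz : Bdy K p z) (h : W ≤ V) :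
    Bdy K p (rs h z) :=
  let ⟨w, hw⟩ := hz
  ⟨Cocyc.rs h w, by rw [app_rs, hw]⟩

theorem Bdy.gp {p : ℕ} {W : X.Opens} {z : Γ(K.X p, W)} (hz : Bdy K p z) (hW : W ≤ U) (k : ℕ) :
    Bdy K p (gp g hW k z) :=
  let ⟨w, hw⟩ := hz
  ⟨Cocyc.gp g hW k w, by rw [app_gp, hw]⟩

variable (K)

/-- Classes on `W` vanishing on `W ∩ X_g` are killed by a power of `g`. -/
def Sep (p : ℕ) (W : X.Opens) : Prop :=
  ∀ (hW : W ≤ U) (z : Γ(K.X p, W)), Coc K p z →
    Bdy K p (rs (inf_le_left : W ⊓ X.basicOpen g ≤ W) z) → ∃ k, Bdy K p (gp g hW k z)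

/-- Classes on `W ∩ X_g` extend to `W` after multiplication by a power of `g`. -/
def Lift (p : ℕ) (W : X.Opens) : Prop :=
  ∀ (hW : W ≤ U) (y : Γ(K.X p, W ⊓ X.basicOpen g)), Coc K p y →
    ∃ (k : ℕ) (z : Γ(K.X p, W)), Coc K p z ∧
      Bdy K p (gp g (inf_le_left.trans hW) k y - rs inf_le_left z)

/-- Both conditions, in all degrees. -/
def Good (W : X.Opens) : Prop := ∀ p, Sep g K p W ∧ Lift g K p W

theorem eq_of_sup (N : X.Modules) {V W T : X.Opens} (hT : T ≤ V ⊔ W) (hV : V ≤ T) (hW : W ≤ T)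
    {s t : Γ(N, T)} (h₁ : rs hV s = rs hV t) (h₂ : rs hW s = rs hW t) : s = t := by
  refine TopCat.Sheaf.eq_of_locally_eq' ⟨N.presheaf, N.isSheaf⟩
    (fun b : ULift.{u} Bool ↦ cond b.down V W) T
    (fun b ↦ homOfLE (by rcases b with ⟨_ | _⟩ <;> assumption)) ?_ s t ?_
  · exact hT.trans (sup_le (le_iSup (fun b : ULift.{u} Bool ↦ cond b.down V W) ⟨true⟩)
      (le_iSup (fun b : ULift.{u} Bool ↦ cond b.down V W) ⟨false⟩))
  · rintro ⟨_ | _⟩
    · exact h₂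
    · exact h₁

theorem exists_glue (N : X.Modules) {V W T : X.Opens} (hT : T ≤ V ⊔ W) (hV : V ≤ T) (hW : W ≤ T)
    (a : Γ(N, V)) (b : Γ(N, W))
    (h : rs (inf_le_left : V ⊓ W ≤ V) a = rs (inf_le_right : V ⊓ W ≤ W) b) :
    ∃ s : Γ(N, T), rs hV s = a ∧ rs hW s = b := by
  let sf : ∀ c : ULift.{u} Bool, Γ(N, cond c.down V W)
    | ⟨true⟩ => a
    | ⟨false⟩ => b
  obtain ⟨s, hs, -⟩ := TopCat.Sheaf.existsUnique_gluing' ⟨N.presheaf, N.isSheaf⟩
    (fun c : ULift.{u} Bool ↦ cond c.down V W) T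
    (fun c ↦ homOfLE (by rcases c with ⟨_ | _⟩ <;> assumption))
    (hT.trans (sup_le (le_iSup (fun b : ULift.{u} Bool ↦ cond b.down V W) ⟨true⟩)
      (le_iSup (fun b : ULift.{u} Bool ↦ cond b.down V W) ⟨false⟩))) sf (by
      rintro ⟨_ | _⟩ ⟨_ | _⟩
      · rfl
      · refine Eq.trans ?_ ((congrArg (rs (le_inf inf_le_right inf_le_left : W ⊓ V ≤ V ⊓ W)) h).symm.trans ?_)
        · exact (rs_rs _ _ b).symm
        · exact rs_rs _ _ a
      · exact h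
      · rfl)
  exact ⟨s, hs ⟨true⟩, hs ⟨false⟩⟩

variable {K} (hfl : ∀ n {V W : X.Opens} (h : W ≤ V), Function.Surjective (rs (N := K.X n) h))
  {V W : X.Opens}

include hfl in
theorem sep_sup (hV : Good g K V) (hW : Good g K W) (hVW : Good g K (V ⊓ W)) (p : ℕ) :
    Sep g K p (V ⊔ W) := by
  intro hU z hz hbd
  set D := X.basicOpen g
  have hVU : V ≤ U := le_sup_left.trans hU
  have hWU : W ≤ U := le_sup_right.trans hU
  have hIU : V ⊓ W ≤ U := inf_le_left.trans hVU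
  obtain ⟨k₁, h₁⟩ := (hV p).1 hVU (rs le_sup_left z) (hz.rs _) (by
    have := hbd.rs (inf_le_inf_right D (le_sup_left : V ≤ V ⊔ W))
    rwa [rs_rs] at this ⊢)
  obtain ⟨k₂, h₂⟩ := (hW p).1 hWU (rs le_sup_right z) (hz.rs _) (by
    have := hbd.rs (inf_le_inf_right D (le_sup_right : W ≤ V ⊔ W))
    rwa [rs_rs] at this ⊢)
  have e₁ := h₁.gp g hVU k₂
  rw [gp_gp, ← rs_gp g le_sup_left hU] at e₁
  have e₂ := h₂.gp g hWU k₁
  rw [gp_gp, ← rs_gp g le_sup_right hU, add_comm] at e₂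
  set k := k₂ + k₁
  obtain _ | q := p
  · rw [bdy_zero_iff] at e₁ e₂
    refine ⟨k, (bdy_zero_iff _ _).2 (eq_of_sup _ le_rfl le_sup_left le_sup_right ?_ ?_)⟩
    · rw [e₁, map_zero]
    · rw [e₂, map_zero]
  obtain ⟨(a : Γ(K.X q, V)), (ha : (K.d q (q + 1)).app V a = _)⟩ := e₁
  obtain ⟨(b : Γ(K.X q, W)), (hb : (K.d q (q + 1)).app W b = _)⟩ := e₂
  obtain ⟨(w : Γ(K.X q, (V ⊔ W) ⊓ D)), (hw : (K.d q (q + 1)).app _ w = _)⟩ := hbd.gp g
    (inf_le_left.trans hU) k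
  rw [← rs_gp g inf_le_left hU] at hw
  have ca : Coc K q (rs inf_le_left a - rs (inf_le_inf_right D le_sup_left) w : Γ(K.X q, V ⊓ D)) := by
    rw [Coc, map_sub, app_rs, app_rs, ha, hw, rs_rs, rs_rs, sub_self]
  have cb : Coc K q (rs inf_le_left b - rs (inf_le_inf_right D le_sup_right) w : Γ(K.X q, W ⊓ D)) := by
    rw [Coc, map_sub, app_rs, app_rs, hb, hw, rs_rs, rs_rs, sub_self]
  obtain ⟨l₁, A, hA, hA'⟩ := (hV q).2 hVU _ ca
  obtain ⟨l₂, B, hB, hB'⟩ := (hW q).2 hWU _ cb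
  set l := l₂ + l₁
  obtain ⟨a₁, a₁_def⟩ : ∃ x, x = gp g hVU l₂ (gp g hVU l₁ a - A) := ⟨_, rfl⟩
  obtain ⟨b₁, b₁_def⟩ : ∃ x, x = gp g hWU l₁ (gp g hWU l₂ b - B) := ⟨_, rfl⟩
  have da₁ : (K.d q (q + 1)).app V a₁ = rs le_sup_left (gp g hU (l + k) z) := by
    simp only [a₁_def, app_gp, map_sub, ha, show (K.d q (q + 1)).app V A = 0 from hA, map_zero,
      sub_zero, rs_gp, gp_gp, l, Nat.add_assoc]
  have db₁ : (K.d q (q + 1)).app W b₁ = rs le_sup_right (gp g hU (l + k) z) := by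
    simp only [b₁_def, app_gp, map_sub, hb, show (K.d q (q + 1)).app W B = 0 from hB, map_zero,
      sub_zero, rs_gp, gp_gp, l]
    rw [show l₁ + l₂ + k = l₂ + l₁ + k by omega]
  have hc : Coc K q (rs inf_le_left a₁ - rs inf_le_right b₁ : Γ(K.X q, V ⊓ W)) := by
    rw [Coc, map_sub, app_rs, app_rs, da₁, db₁, rs_rs, rs_rs, sub_self]
  have hcD : Bdy K q (rs (inf_le_left : V ⊓ W ⊓ D ≤ V ⊓ W)
      (rs inf_le_left a₁ - rs inf_le_right b₁ : Γ(K.X q, V ⊓ W))) := by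
    have h := ((hA'.gp g (inf_le_left.trans hVU) l₂).rs
      (inf_le_inf_right D (inf_le_left : V ⊓ W ≤ V))).sub
        ((hB'.gp g (inf_le_left.trans hWU) l₁).rs (inf_le_inf_right D (inf_le_right : V ⊓ W ≤ W)))
    convert h using 1
    simp only [a₁_def, b₁_def, map_sub, rs_gp, rs_rs, gp_gp]
    rw [show l₁ + l₂ = l₂ + l₁ from add_comm _ _]
    abel
  obtain ⟨m, e, he⟩ := (hVW q).1 hIU _ hc hcD
  obtain ⟨ê, hê⟩ := hfl (q - 1) (inf_le_left : V ⊓ W ≤ V) e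
  obtain ⟨ω, hω₁, hω₂⟩ := exists_glue (K.X q) le_rfl le_sup_left le_sup_right
    (gp g hVU m a₁ - (K.d (q - 1) q).app V ê) (gp g hWU m b₁) (by
      rw [map_sub, ← app_rs, hê, he, rs_gp, rs_gp, map_sub, sub_sub_cancel])
  refine ⟨m + (l + k), ω, ?_⟩
  change (K.d q (q + 1)).app _ ω = _
  refine eq_of_sup _ le_rfl le_sup_left le_sup_right ?_ ?_
  · rw [← app_rs, hω₁, map_sub, app_gp, da₁, ← rs_gp g le_sup_left hU, gp_gp, d_d, sub_zero]
  · rw [← app_rs, hω₂, app_gp, db₁, ← rs_gp g le_sup_right hU, gp_gp]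

include hfl in
theorem lift_sup (hV : Good g K V) (hW : Good g K W) (hVW : Good g K (V ⊓ W)) (p : ℕ) :
    Lift g K p (V ⊔ W) := by
  intro hU
  set D := X.basicOpen g
  intro y hy
  have hVU : V ≤ U := le_sup_left.trans hU
  have hWU : W ≤ U := le_sup_right.trans hU
  have hIU : V ⊓ W ≤ U := inf_le_left.trans hVU
  have hDV : V ⊓ D ≤ (V ⊔ W) ⊓ D := inf_le_inf_right D le_sup_left
  have hDW : W ⊓ D ≤ (V ⊔ W) ⊓ D := inf_le_inf_right D le_sup_right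
  have hD : (V ⊔ W) ⊓ D ≤ V ⊓ D ⊔ W ⊓ D := inf_sup_right V W D |>.le
  obtain ⟨k₁, a, ha, hα⟩ := (hV p).2 hVU (rs hDV y) (hy.rs hDV)
  obtain ⟨k₂, b, hb, hβ⟩ := (hW p).2 hWU (rs hDW y) (hy.rs hDW)
  have hc : Coc K p (rs inf_le_left (gp g hVU k₂ a) - rs inf_le_right (gp g hWU k₁ b) :
      Γ(K.X p, V ⊓ W)) := ((ha.gp g hVU k₂).rs _).sub ((hb.gp g hWU k₁).rs _)
  have hcD : Bdy K p (rs (inf_le_left : V ⊓ W ⊓ D ≤ V ⊓ W)
      (rs inf_le_left (gp g hVU k₂ a) - rs inf_le_right (gp g hWU k₁ b) : Γ(K.X p, V ⊓ W))) := by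
    have h := ((hβ.gp g (inf_le_left.trans hWU) k₁).rs
      (inf_le_inf_right D (inf_le_right : V ⊓ W ≤ W))).sub
        ((hα.gp g (inf_le_left.trans hVU) k₂).rs (inf_le_inf_right D (inf_le_left : V ⊓ W ≤ V)))
    convert h using 1
    simp only [map_sub, rs_gp, rs_rs, gp_gp]
    rw [show k₂ + k₁ = k₁ + k₂ from add_comm _ _]
    abel
  obtain ⟨l, e, he⟩ := (hVW p).1 hIU _ hc hcD
  obtain ⟨ê, hê⟩ := hfl (p - 1) (inf_le_left : V ⊓ W ≤ V) e
  obtain ⟨a₁, a₁_def⟩ : ∃ x, x = gp g hVU l (gp g hVU k₂ a) - (K.d (p - 1) p).app V ê := ⟨_, rfl⟩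
  obtain ⟨b₁, b₁_def⟩ : ∃ x, x = gp g hWU l (gp g hWU k₁ b) := ⟨_, rfl⟩
  have ha₁ : Coc K p a₁ := a₁_def ▸ ((ha.gp g hVU k₂).gp g hVU l).sub (coc_d K ê)
  have hb₁ : Coc K p b₁ := b₁_def ▸ (hb.gp g hWU k₁).gp g hWU l
  have hab : rs (inf_le_left : V ⊓ W ≤ V) a₁ = rs (inf_le_right : V ⊓ W ≤ W) b₁ := by
    simp only [a₁_def, b₁_def]
    rw [map_sub, ← app_rs, hê, he, rs_gp, rs_gp g inf_le_right, map_sub, sub_sub_cancel]
    simp only [rs_gp, gp_gp]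
  set k := l + (k₁ + k₂)
  have hα₁ : Bdy K p (gp g (inf_le_left.trans hVU) k (rs hDV y) - rs inf_le_left a₁) := by
    have h := ((hα.gp g (inf_le_left.trans hVU) k₂).gp g (inf_le_left.trans hVU) l).add
      (Bdy.rs (W := V ⊓ D) (⟨ê, rfl⟩ : Bdy K p ((K.d (p - 1) p).app V ê)) inf_le_left)
    convert h using 1
    simp only [a₁_def, k, map_sub, rs_gp, gp_gp]
    rw [show l + (k₁ + k₂) = l + k₂ + k₁ by omega]
    abel
  have hβ₁ : Bdy K p (gp g (inf_le_left.trans hWU) k (rs hDW y) - rs inf_le_left b₁) := by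
    convert (hβ.gp g (inf_le_left.trans hWU) k₁).gp g (inf_le_left.trans hWU) l using 1
    simp only [b₁_def, k, map_sub, rs_gp, gp_gp]
  obtain _ | q := p
  · rw [bdy_zero_iff] at hα₁ hβ₁
    obtain ⟨z, hz₁, hz₂⟩ := exists_glue (K.X 0) le_rfl le_sup_left le_sup_right a₁ b₁ hab
    refine ⟨k, z, eq_of_sup _ le_rfl le_sup_left le_sup_right ?_ ?_,
      (bdy_zero_iff _ _).2 (eq_of_sup _ hD hDV hDW ?_ ?_)⟩
    · rw [← app_rs, hz₁, map_zero]; exact ha₁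
    · rw [← app_rs, hz₂, map_zero]; exact hb₁
    · rw [map_zero, map_sub, rs_gp, rs_rs, ← rs_rs le_sup_left inf_le_left z, hz₁, hα₁]
    · rw [map_zero, map_sub, rs_gp, rs_rs, ← rs_rs le_sup_right inf_le_left z, hz₂, hβ₁]
  obtain ⟨(α : Γ(K.X q, V ⊓ D)), (dα : (K.d q (q + 1)).app (V ⊓ D) α = _)⟩ := hα₁
  obtain ⟨(β : Γ(K.X q, W ⊓ D)), (dβ : (K.d q (q + 1)).app (W ⊓ D) β = _)⟩ := hβ₁
  have hI₁ : V ⊓ W ⊓ D ≤ V ⊓ D := inf_le_inf_right D inf_le_left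
  have hI₂ : V ⊓ W ⊓ D ≤ W ⊓ D := inf_le_inf_right D inf_le_right
  have cγ : Coc K q (rs hI₁ α - rs hI₂ β) := by
    rw [Coc, map_sub, app_rs, app_rs, dα, dβ, map_sub, map_sub, rs_gp, rs_gp, rs_rs, rs_rs, rs_rs,
      rs_rs, ← rs_rs (inf_le_left : V ⊓ W ≤ V) inf_le_left a₁,
      ← rs_rs (inf_le_right : V ⊓ W ≤ W) inf_le_left b₁, hab, sub_self]
  obtain ⟨m, C, hC, ε, (hε : (K.d (q - 1) q).app _ ε = _)⟩ := (hVW q).2 hIU _ cγ
  obtain ⟨Ĉ, hĈ⟩ := hfl q (inf_le_left : V ⊓ W ≤ V) C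
  obtain ⟨ε', hε'⟩ := hfl (q - 1) hI₁ ε
  have hCz : rs (inf_le_left : V ⊓ W ≤ V) ((K.d q (q + 1)).app V Ĉ) = 0 := by
    rw [← app_rs, hĈ]; exact hC
  obtain ⟨z, hz₁, hz₂⟩ := exists_glue (K.X (q + 1)) le_rfl le_sup_left le_sup_right
    (gp g hVU m a₁ + (K.d q (q + 1)).app V Ĉ) (gp g hWU m b₁) (by
      rw [map_add, hCz, add_zero, rs_gp, rs_gp, hab])
  refine ⟨m + k, z, eq_of_sup _ le_rfl le_sup_left le_sup_right ?_ ?_, ?_⟩
  · rw [← app_rs, hz₁, map_zero]; exact (ha₁.gp g hVU m).add (coc_d K Ĉ)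
  · rw [← app_rs, hz₂, map_zero]; exact hb₁.gp g hWU m
  have hov : V ⊓ D ⊓ (W ⊓ D) ≤ V ⊓ W ⊓ D :=
    le_inf (le_inf (inf_le_left.trans inf_le_left) (inf_le_right.trans inf_le_left))
      (inf_le_left.trans inf_le_right)
  obtain ⟨ω, hω₁, hω₂⟩ := exists_glue (K.X q) hD hDV hDW
    (gp g (inf_le_left.trans hVU) m α - rs inf_le_left Ĉ - (K.d (q - 1) q).app _ ε')
    (gp g (inf_le_left.trans hWU) m β) (by
      rw [← rs_rs hI₁ hov, ← rs_rs hI₂ hov]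
      congr 1
      rw [map_sub, map_sub, rs_rs, ← rs_rs (inf_le_left : V ⊓ W ≤ V) inf_le_left Ĉ, hĈ, ← app_rs,
        hε', hε, rs_gp, rs_gp, map_sub]
      abel)
  refine ⟨ω, ?_⟩
  change (K.d q (q + 1)).app _ ω = _
  refine eq_of_sup _ hD hDV hDW ?_ ?_
  · rw [← app_rs, hω₁, map_sub, map_sub, app_gp, dα, d_d, sub_zero, map_sub, map_sub, rs_gp, rs_rs,
      ← rs_rs le_sup_left inf_le_left z, hz₁, map_add, rs_gp, app_rs, gp_gp]
    abel
  · rw [← app_rs, hω₂, app_gp, dβ, map_sub, map_sub, rs_gp, rs_rs,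
      ← rs_rs le_sup_right inf_le_left z, hz₂, rs_gp, gp_gp]

include hfl in
theorem good_sup (hV : Good g K V) (hW : Good g K W) (hVW : Good g K (V ⊓ W)) :
    Good g K (V ⊔ W) :=
  fun p ↦ ⟨sep_sup g hfl hV hW hVW p, lift_sup g hfl hV hW hVW p⟩

theorem good_bot : Good g K ⊥ := by
  have h : ∀ n (T : X.Opens), T ≤ ⊥ → ∀ z : Γ(K.X n, T), z = 0 := fun n T hT z ↦
    eq_of_sup _ (hT.trans bot_le) (bot_le : (⊥ : X.Opens) ≤ T) bot_le
      (TopCat.Sheaf.eq_of_locally_eq' ⟨(K.X n).presheaf, (K.X n).isSheaf⟩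
        (fun i : PEmpty.{u + 1} ↦ i.elim) ⊥ (fun i ↦ i.elim) bot_le _ _ fun i ↦ i.elim)
      (TopCat.Sheaf.eq_of_locally_eq' ⟨(K.X n).presheaf, (K.X n).isSheaf⟩
        (fun i : PEmpty.{u + 1} ↦ i.elim) ⊥ (fun i ↦ i.elim) bot_le _ _ fun i ↦ i.elim)
  refine fun p ↦ ⟨fun hU z hz _ ↦ ⟨0, 0, ?_⟩, fun hU y hy ↦ ⟨0, 0, Coc.zero, 0, ?_⟩⟩
  · rw [h _ _ le_rfl (gp g hU 0 z), map_zero]
  · rw [map_zero]; exact (h _ _ inf_le_left _).symm

include hfl in
theorem good_finset_sup (C : X.Opens → Prop) (hC : ∀ A B, C A → C B → C (A ⊓ B))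
    (hG : ∀ A, C A → Good g K A) {ι : Type*} (s : Finset ι) (f : ι → X.Opens)
    (hf : ∀ i ∈ s, C (f i)) : Good g K (s.sup f) := by
  classical
  induction s using Finset.induction_on generalizing f with
  | empty => exact good_bot g
  | insert i s hi ih =>
    rw [Finset.sup_insert]
    refine good_sup g hfl (hG _ (hf i (Finset.mem_insert_self i s)))
      (ih f fun j hj ↦ hf j (Finset.mem_insert_of_mem hj)) ?_
    rw [Finset.sup_inf_distrib_left]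
    exact ih _ fun j hj ↦
      hC _ _ (hf i (Finset.mem_insert_self i s)) (hf j (Finset.mem_insert_of_mem hj))

/-- `K` computes the cohomology of `M` on affine opens. -/
structure Resolves (K : CochainComplex X.Modules ℕ) (M : X.Modules) (ι : M ⟶ K.X 0) : Prop where
  flasque : ∀ n {V W : X.Opens} (h : W ≤ V), Function.Surjective (rs (N := K.X n) h)
  injective : ∀ W : X.Opens, Function.Injective (ι.app W)
  coc_iff : ∀ {W : X.Opens} (z : Γ(K.X 0, W)), Coc K 0 z ↔ ∃ m, ι.app W m = z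
  exact : ∀ {W : X.Opens}, IsAffineOpen W → ∀ q (z : Γ(K.X (q + 1), W)), Coc K (q + 1) z →
    Bdy K (q + 1) z

theorem good_of_isAffineOpen {M : X.Modules} [M.IsQuasicoherent] {ι : M ⟶ K.X 0}
    (hK : Resolves K M ι) {W : X.Opens} (hWA : IsAffineOpen W) : Good g K W := by
  intro p
  constructor
  · intro hW z hz hbd
    obtain _ | q := p
    · rw [bdy_zero_iff] at hbd
      obtain ⟨m, rfl⟩ := (hK.coc_iff z).1 hz
      have hle : X.basicOpen (X.presheaf.map (homOfLE hW).op g) ≤ W ⊓ X.basicOpen g :=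
        (X.basicOpen_res _ _).le
      obtain ⟨n, hn⟩ := (QCoh.smulLift_and_smulSep_of_isAffineOpen hWA M
        (X.presheaf.map (homOfLE hW).op g)).2 m (by
          apply hK.injective
          change ι.app _ (rs (X.basicOpen_le _) m) = _
          rw [app_rs, ← rs_rs inf_le_left hle, hbd, map_zero, map_zero])
      refine ⟨n, (bdy_zero_iff _ _).2 ?_⟩
      rw [← app_gp, show gp g hW n m = 0 from hn, map_zero]
    · exact ⟨0, by rw [gp_zero]; exact hK.exact hWA q z hz⟩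
  · intro hW y hy
    have he : X.basicOpen (X.presheaf.map (homOfLE hW).op g) = W ⊓ X.basicOpen g :=
      X.basicOpen_res _ _
    obtain _ | q := p
    · obtain ⟨m, rfl⟩ := (hK.coc_iff y).1 hy
      obtain ⟨n, t, ht⟩ := (QCoh.smulLift_and_smulSep_of_isAffineOpen hWA M
        (X.presheaf.map (homOfLE hW).op g)).1 (rs he.le m)
      refine ⟨n, ι.app W t, (hK.coc_iff _).2 ⟨t, rfl⟩, (bdy_zero_iff _ _).2 ?_⟩
      rw [← app_gp, ← app_rs, ← map_sub, sub_eq_zero.2 ?_, map_zero]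
      have h2 := congrArg (rs he.ge) ht
      rw [← map_pow, show M.presheaf.map (homOfLE (X.basicOpen_le _)).op t = rs (X.basicOpen_le _) t
        from rfl, rs_rs] at h2
      rw [h2]
      change _ = rs he.ge (_ • rs he.le m)
      rw [rs]
      erw [Scheme.Modules.map_smul]
      rw [show M.presheaf.map (homOfLE he.ge).op (rs he.le m) = rs he.ge (rs he.le m) from rfl, rs_rs,
        rs_self, map_pow, ringMap_map_apply, map_pow, ringMap_map_apply]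
      rfl
    · refine ⟨0, 0, Coc.zero, ?_⟩
      rw [gp_zero, map_zero, sub_zero]
      exact hK.exact (he ▸ hWA.basicOpen _) q y hy

/-- The cohomology on quasi-compact quasi-separated opens localises. -/
theorem good_of_isCompact {M : X.Modules} [M.IsQuasicoherent] {ι : M ⟶ K.X 0}
    (hK : Resolves K M ι) (hU : IsQuasiSeparated (U : Set X)) {W : X.Opens} (hW : W ≤ U)
    (hWc : IsCompact (W : Set X)) : Good g K W := by
  have h1 : ∀ B : X.Opens, IsAffineOpen B → B ≤ U → ∀ A ≤ B, IsCompact (A : Set X) →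
      Good g K A := by
    intro B hB _ A hAB hA
    obtain ⟨ι', _, T, hT, hTA, hAT⟩ := QCoh.exists_finite_affine_cover hA
    have he : Finset.univ.sup T = A :=
      le_antisymm (Finset.sup_le fun i _ ↦ hTA i) (hAT.trans (iSup_le fun i ↦ Finset.le_sup (Finset.mem_univ i)))
    rw [← he]
    refine good_finset_sup g hK.flasque (fun A ↦ IsAffineOpen A ∧ A ≤ B) (fun A A' h h' ↦ ⟨?_,
      inf_le_left.trans h.2⟩) (fun A h ↦ good_of_isAffineOpen g hK h.1) _ T fun i _ ↦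
        ⟨hT i, (hTA i).trans hAB⟩
    exact Cohom.isAffineOpen_inf_of_le hB h.1 h'.1 h.2 h'.2
  obtain ⟨ι', _, T, hT, hTW, hWT⟩ := QCoh.exists_finite_affine_cover hWc
  have he : Finset.univ.sup T = W :=
    le_antisymm (Finset.sup_le fun i _ ↦ hTW i) (hWT.trans (iSup_le fun i ↦ Finset.le_sup (Finset.mem_univ i)))
  rw [← he]
  refine good_finset_sup g hK.flasque
    (fun A ↦ IsCompact (A : Set X) ∧ ∃ B, IsAffineOpen B ∧ B ≤ U ∧ A ≤ B) ?_ ?_ _ T fun i _ ↦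
      ⟨(hT i).isCompact, T i, hT i, (hTW i).trans hW, le_rfl⟩
  · rintro A A' ⟨hA, B, hB, hBU, hAB⟩ ⟨hA', B', hB', hBU', hAB'⟩
    exact ⟨hU _ _ (hAB.trans hBU) A.isOpen hA (hAB'.trans hBU') A'.isOpen hA',
      B, hB, hBU, inf_le_left.trans hAB⟩
  · rintro A ⟨hA, B, hB, hBU, hAB⟩
    exact h1 B hB hBU A hAB hA

end GrothLib.Cocyc
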