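import Groth.Agent.Lib.Cohom.Basic
import Mathlib.RingTheory.Ideal.Maps

/-!
# A criterion for the vanishing of higher cohomology on a basis indexed by a ring

The opens `D f` behave like the basic opens of a spectrum; if sections on `D a ⊓ D b` are
differences of sections on `D a` and `D b` whenever `D f = D a ⊔ D b`, cohomology of positive
degree vanishes on every `D f`.
-/

universe u v

open CategoryTheory CategoryTheory.Limits Opposite TopologicalSpace Abelian

namespace GrothLib.Cohom

variable {T : Type u} [TopologicalSpace T]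

theorem res_eq_zero_of_le (F : AbSheaf T) (n : ℕ) {U V W : Opens T} (hV : V ≤ U) (hW : W ≤ V)
    (x : Ext.{u} (freeFun.obj U) F n) (h : res F n hV x = 0) : res F n (hW.trans hV) x = 0 := by
  rw [← res_res F n hV hW x, h, map_zero]

/-- Vanishing of positive degree cohomology on a ring-indexed basis. -/
theorem subsingleton_of_basis_surjective {R : Type v} [CommRing R] (D : R → Opens T)
    (F : AbSheaf T) (hzero : D 0 = ⊥) (hmul : ∀ f g, D (f * g) = D f ⊓ D g)
    (hadd : ∀ f g, D (f + g) ≤ D f ⊔ D g)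
    (hbasis : ∀ f, ∀ p ∈ D f, ∀ V : Opens T, p ∈ V → ∃ g, p ∈ D g ∧ D g ≤ V)
    (hrad : ∀ (I : Ideal R) f, (∀ p ∈ D f, ∃ g ∈ I, p ∈ D g) → ∃ k : ℕ, f ^ (k + 1) ∈ I)
    (hsurj : ∀ f a b, D f = D a ⊔ D b → ∀ y : F.obj.obj (op (D a ⊓ D b)), ∃ u v,
      F.obj.map (homOfLE (inf_le_left : D a ⊓ D b ≤ D a)).op u -
        F.obj.map (homOfLE (inf_le_right : D a ⊓ D b ≤ D b)).op v = y)
    (n : ℕ) (f : R) : Subsingleton (Ext.{u} (freeFun.obj (D f)) F (n + 1)) := by
  have hpow (g : R) (k : ℕ) : D (g ^ (k + 1)) = D g := by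
    induction k with
    | zero => rw [pow_one]
    | succ k ih => rw [pow_succ, hmul, ih, inf_idem]
  suffices step : ∀ n, (∀ f a b, D f = D a ⊔ D b → ∀ y : Ext.{u} (freeFun.obj (D a ⊓ D b)) F n,
      ∃ u v, res F n (inf_le_left : D a ⊓ D b ≤ D a) u -
        res F n (inf_le_right : D a ⊓ D b ≤ D b) v = y) →
      ∀ f, Subsingleton (Ext.{u} (freeFun.obj (D f)) F (n + 1)) by
    induction n generalizing f with
    | zero =>
      refine step 0 (fun f a b hf y ↦ ?_) f
      obtain ⟨u, v, huv⟩ := hsurj f a b hf (H0Equiv F _ y)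
      refine ⟨(H0Equiv F _).symm u, (H0Equiv F _).symm v, (H0Equiv F _).injective ?_⟩
      rw [map_sub, H0Equiv_res, H0Equiv_res, AddEquiv.apply_symm_apply, AddEquiv.apply_symm_apply,
        huv]
    | succ n ih =>
      refine step (n + 1) (fun f a b _ y ↦ ⟨0, 0, ?_⟩) f
      have := ih (a * b)
      rw [hmul] at this
      exact Subsingleton.elim _ _
  intro n hs f
  refine subsingleton_of_forall_eq 0 fun x ↦ ?_
  have hle (g : R) : D (f * g) ≤ D f := by rw [hmul]; exact inf_le_left
  let I : Ideal R :=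
    { carrier := {g | res F (n + 1) (hle g) x = 0}
      zero_mem' := by
        have : Subsingleton (Ext.{u} (freeFun.obj (D (f * 0))) F (n + 1)) := by
          rw [mul_zero, hzero]; exact subsingleton_ext_freeFun_bot F _
        exact Subsingleton.elim _ _
      add_mem' := fun {g₁ g₂} h₁ h₂ ↦ by
        let h := f * (g₁ + g₂)
        have hh : D h = D (h * g₁) ⊔ D (h * g₂) := by
          rw [hmul h, hmul h, ← inf_sup_left, left_eq_inf]
          calc D h ≤ D (g₁ + g₂) := by rw [hmul]; exact inf_le_right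
            _ ≤ _ := hadd _ _
        have l₁ : D (h * g₁) ≤ D (f * g₁) := by
          rw [hmul h, hmul f g₁]; exact inf_le_inf_right _ (hle _)
        have l₂ : D (h * g₂) ≤ D (f * g₂) := by
          rw [hmul h, hmul f g₂]; exact inf_le_inf_right _ (hle _)
        refine eq_zero_of_res_eq_zero F n hh.symm (hs h _ _ hh) _ ?_ ?_
        · rw [res_res]; exact res_eq_zero_of_le F _ (hle g₁) l₁ x h₁
        · rw [res_res]; exact res_eq_zero_of_le F _ (hle g₂) l₂ x h₂
      smul_mem' := fun r g h ↦ by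
        have l : D (f * (r * g)) ≤ D (f * g) := by
          rw [hmul f, hmul f, hmul r]; exact inf_le_inf_left _ inf_le_right
        exact res_eq_zero_of_le F _ (hle g) l x h }
  obtain ⟨k, hk⟩ := hrad I f fun p hp ↦ by
    obtain ⟨V, hV, hpV, hx⟩ := exists_res_eq_zero F n x p hp
    obtain ⟨g, hpg, hgV⟩ := hbasis f p hp V hpV
    refine ⟨g, ?_, hpg⟩
    have l : D (f * g) ≤ V := by rw [hmul]; exact inf_le_right.trans hgV
    exact res_eq_zero_of_le F _ hV l x hx
  have e : D (f * f ^ (k + 1)) = D f := by rw [hmul, hpow, inf_idem]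
  have := res_eq_zero_of_le F _ (hle _) e.ge x hk
  rwa [res_self] at this

end GrothLib.Cohom
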