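import Groth.Agent.Lib.Cohom.RpushModules
import Groth.Agent.Lib.QCoh.Filtration
import Groth.Agent.Lib.QCoh.Qcqs
import Groth.Prelude.Def_CohBC2

/-!
# `R^p (g ∘ f)_* = g_* R^p f_*` for `g` affine, through the edge map
-/

set_option autoImplicit false
set_option linter.style.haveILetI false
set_option backward.isDefEq.respectTransparency false
universe u

open CategoryTheory CategoryTheory.Limits Opposite TopologicalSpace AlgebraicGeometry

noncomputable section

namespace GrothLib.Cohom

variable {S T : Scheme.{u}} (g : S ⟶ T) [PreservesFiniteLimits (Scheme.Modules.pushforward g)]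
  (K : CochainComplex S.Modules ℕ) (p : ℕ)

theorem homologyComparison_hcls {W : T.Opens} (z : Γ((pushCx g K).X p, W))
    (hz : Cocyc.Coc (pushCx g K) p z) :
    (RDer.homologyComparison (Scheme.Modules.pushforward g) K p).app W (Cocyc.hcls (pushCx g K) p z hz) =
      Cocyc.hcls K p (show Γ(K.X p, g ⁻¹ᵁ W) from z) hz := by
  have h1 : ((Scheme.Modules.pushforward g).map (K.iCycles p)).app W
      ((RDer.cyclesComparison (Scheme.Modules.pushforward g) K p).app W (Cocyc.cyc (pushCx g K) p z hz)) = z := by
    rw [← ConcreteCategory.comp_apply, ← Scheme.Modules.Hom.comp_app, RDer.cyclesComparison_i]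
    exact Cocyc.iCycles_cyc (pushCx g K) p z hz
  show ((pushCx g K).homologyπ p ≫ RDer.homologyComparison (Scheme.Modules.pushforward g) K p).app W
    (Cocyc.cyc (pushCx g K) p z hz) = _
  rw [RDer.homologyπ_homologyComparison, Scheme.Modules.Hom.comp_app, ConcreteCategory.comp_apply]
  show (K.homologyπ p).app (g ⁻¹ᵁ W)
    ((RDer.cyclesComparison (Scheme.Modules.pushforward g) K p).app W (Cocyc.cyc (pushCx g K) p z hz)) = _
  exact congrArg ((K.homologyπ p).app (g ⁻¹ᵁ W)) (Cocyc.cyc_eq K p _ hz h1).symm

/-- The comparison is bijective on affine opens when the cohomology of sections localises. -/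
theorem isIso_homologyComparison [IsAffineHom g] (hK : Cocyc.Localises K p)
    (hgK : Cocyc.Localises (pushCx g K) p) :
    IsIso (RDer.homologyComparison (Scheme.Modules.pushforward g) K p) := by
  haveI := Cocyc.isQuasicoherent_homology hgK
  haveI := Cocyc.isQuasicoherent_homology hK
  haveI := QCoh.isQuasicoherent_pushforward g (K.homology p)
  refine QCoh.isIso_of_bijective_on_cover _ (fun U : T.affineOpens => U.1)
    (iSup_affineOpens_eq_top T) (fun U => U.2) fun U => ?_
  have hV : IsAffineOpen (g ⁻¹ᵁ U.1) := U.2.preimage g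
  refine ⟨(injective_iff_map_eq_zero _).2 fun s hs => ?_, fun t => ?_⟩
  · obtain ⟨z, hz, rfl⟩ := Cocyc.exists_hcls_eq hgK U.2 s
    rw [homologyComparison_hcls] at hs
    obtain ⟨w, hw⟩ := Cocyc.bdy_of_hcls_eq_zero hK hV _ _ hs
    exact Cocyc.hcls_eq_zero_of_bdy (pushCx g K) p z hz ⟨w, hw⟩
  · obtain ⟨z, hz, rfl⟩ := Cocyc.exists_hcls_eq hK hV t
    exact ⟨Cocyc.hcls (pushCx g K) p (V := U.1) z hz, homologyComparison_hcls g K p z hz⟩

/-- The edge map for an affine second morphism is an isomorphism. -/
theorem isIso_lerayEdgeOut {X : Scheme.{u}} (f : X ⟶ S) [QuasiCompact f] [QuasiSeparated f] [IsAffineHom g]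
    [HasInjectiveResolutions X.Modules] (M : X.Modules) [M.IsQuasicoherent] :
    IsIso (CohBC.lerayEdgeOut f g p M) := by
  let I := FlRes.ofInjective (injectiveResolution M)
  have h1 : Cocyc.Localises (pushCx f (injectiveResolution M).cocomplex) p := localises_pushCx f I p
  have h2 : Cocyc.Localises (pushCx g (pushCx f (injectiveResolution M).cocomplex)) p :=
    localises_pushCx (f ≫ g) I p
  haveI := isIso_homologyComparison g _ p h1 h2
  unfold CohBC.lerayEdgeOut RDer.edgeOut
  infer_instance

end GrothLib.Cohom
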