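import Groth.Agent.Lib.Cohom.Cocycle
import Groth.Agent.Lib.Cohom.ClassChain
import Groth.Agent.Lib.Cohom.LinearLES
import Groth.Agent.Lib.Cohom.InjModule
import Groth.Agent.Lib.Cohom.Vanishing
import Groth.Agent.Lib.Cohom.Serre
import Mathlib.CategoryTheory.Abelian.Injective.Resolution

/-!
# Cohomology from an injective resolution of modules

The cocycles of sections of an injective resolution of `M` on `W` surject onto `H^p(W, M)` with
kernel the coboundaries, compatibly with restrictions and scalars.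
-/

set_option backward.isDefEq.respectTransparency false

universe u

open CategoryTheory CategoryTheory.Limits Opposite TopologicalSpace AlgebraicGeometry Abelian

namespace GrothLib.Cohom

variable {X : Scheme.{u}}

/-- A resolution of a module by modules with surjective restriction maps. -/
structure FlRes (M : X.Modules) where
  /-- The complex. -/
  cocomplex : CochainComplex X.Modules ℕ
  /-- The augmentation. -/
  ι : M ⟶ cocomplex.X 0
  ι_d : ι ≫ cocomplex.d 0 1 = 0
  /-- The augmentation is the kernel of the first differential. -/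
  isKernel : IsLimit (KernelFork.ofι ι ι_d)
  exact_succ : ∀ n, (ShortComplex.mk _ _ (cocomplex.d_comp_d n (n + 1) (n + 2))).Exact
  flasque : ∀ n {V W : X.Opens} (h : W ≤ V),
    Function.Surjective (Cocyc.rs (N := cocomplex.X n) h)

/-- An injective resolution is a resolution by flasque modules. -/
noncomputable def FlRes.ofInjective {M : X.Modules} (I : InjectiveResolution M) : FlRes M where
  cocomplex := I.cocomplex
  ι := I.ι.f 0
  ι_d := I.ι_f_zero_comp_complex_d
  isKernel := I.isLimitKernelFork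
  exact_succ := I.exact_succ
  flasque n {_ _} h := @mapSurjective_of_injective _ _ _ X.ringCatSheaf _ _ (I.cocomplex.X n)
    (I.injective n) _ _ (homOfLE h) _

variable {M : X.Modules} (I : FlRes M)

/-- The underlying complex of abelian sheaves. -/
noncomputable abbrev abCx : CochainComplex (AbSheaf X) ℕ :=
  ((QCoh.toAbFun X).mapHomologicalComplex _).obj I.cocomplex

instance toAbFun_preservesFiniteColimits (X : Scheme.{u}) :
    PreservesFiniteColimits (QCoh.toAbFun X) :=
  QCoh.toSheaf_preservesFiniteColimits (R := X.ringCatSheaf)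

instance toAbFun_preservesFiniteLimits (X : Scheme.{u}) : PreservesFiniteLimits (QCoh.toAbFun X) :=
  (((QCoh.toAbFun X).exact_tfae.out 0 3
    (a := ∀ (T : ShortComplex X.Modules), T.ShortExact → (T.map (QCoh.toAbFun X)).ShortExact)
    (b := PreservesFiniteLimits (QCoh.toAbFun X) ∧ PreservesFiniteColimits (QCoh.toAbFun X))).1
      QCoh.toAbFun_map_shortExact).1

theorem abCx_exact (n : ℕ) :
    (ShortComplex.mk _ _ ((abCx I).d_comp_d n (n + 1) (n + 2))).Exact :=
  (I.exact_succ n).map (QCoh.toAbFun X)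

theorem abCx_acyclic (W : Opens X) (n j : ℕ) :
    Subsingleton (Ext.{u} (freeFun.obj W) ((abCx I).X n) (j + 1)) := by
  have : TopCat.Sheaf.IsFlasque ((abCx I).X n) :=
    ⟨fun i ↦ (AddCommGrpCat.epi_iff_surjective _).2 (I.flasque n i.unop.le)⟩
  exact SheafCoh.flasque_HU_subsingleton ((abCx I).X n) j W

/-- `M` is the kernel of the first differential. -/
noncomputable def z0 : Coh.toAb M ≅ ClassChain.Z (abCx I) 0 :=
  ((KernelFork.mapIsLimit _ I.isKernel (QCoh.toAbFun X))).conePointUniqueUpToIso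
    (limit.isLimit _)

theorem z0_hom_ι : (z0 I).hom ≫ kernel.ι _ = (QCoh.toAbFun X).map (I.ι) :=
  IsLimit.conePointUniqueUpToIso_hom_comp _ _ WalkingParallelPair.zero

/-- The cocycles on `W`. -/
noncomputable def cocycles (p : ℕ) (W : X.Opens) : AddSubgroup Γ(I.cocomplex.X p, W) :=
  ((I.cocomplex.d p (p + 1)).app W).hom.ker

theorem mem_cocycles {p : ℕ} {W : X.Opens} (z : Γ(I.cocomplex.X p, W)) :
    z ∈ cocycles I p W ↔ Cocyc.Coc I.cocomplex p z := Iff.rfl

/-- The map into the cycles classified by a cocycle. -/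
noncomputable def liftCoc (p : ℕ) (W : X.Opens) :
    cocycles I p W →+ (freeFun.obj W ⟶ ClassChain.Z (abCx I) p) :=
  AddMonoidHom.mk' (fun z ↦ kernel.lift _
    ((sectionsEquiv W (Coh.toAb (I.cocomplex.X p))).symm z.1) (by
      apply (sectionsEquiv W (Coh.toAb (I.cocomplex.X (p + 1)))).injective
      refine (sectionsEquiv_comp _ _).trans ?_
      erw [Equiv.apply_symm_apply]
      exact (z.2 : _ = (0 : Γ(I.cocomplex.X (p + 1), W))).trans
        (map_zero (sectionsAddEquiv W (Coh.toAb (I.cocomplex.X (p + 1))))).symm)) fun a b ↦ by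
    apply equalizer.hom_ext
    rw [kernel.lift_ι, Preadditive.add_comp, kernel.lift_ι, kernel.lift_ι]
    exact map_add (sectionsAddEquiv W (Coh.toAb (I.cocomplex.X p))).symm a.1 b.1

theorem liftCoc_ι (p : ℕ) (W : X.Opens) (z : cocycles I p W) :
    liftCoc I p W z ≫ kernel.ι _ = (sectionsEquiv W (Coh.toAb (I.cocomplex.X p))).symm z.1 :=
  kernel.lift_ι _ _ _

theorem liftCoc_bijective (p : ℕ) (W : X.Opens) : Function.Bijective (liftCoc I p W) := by
  refine ⟨fun a b h ↦ ?_, fun φ ↦ ?_⟩
  · apply Subtype.ext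
    apply (sectionsEquiv W (Coh.toAb (I.cocomplex.X p))).symm.injective
    rw [← liftCoc_ι, ← liftCoc_ι, h]
  · let z : Γ(I.cocomplex.X p, W) :=
      sectionsEquiv W (Coh.toAb (I.cocomplex.X p)) (φ ≫ kernel.ι _)
    refine ⟨⟨z, ?_⟩, ?_⟩
    · have h : (φ ≫ kernel.ι ((abCx I).d p (p + 1))) ≫ (abCx I).d p (p + 1) = 0 := by
        rw [Category.assoc, kernel.condition, comp_zero]
      have h2 := congrArg (sectionsEquiv W (Coh.toAb (I.cocomplex.X (p + 1)))) h
      rw [sectionsEquiv_comp] at h2
      exact h2.trans (map_zero (sectionsAddEquiv W (Coh.toAb (I.cocomplex.X (p + 1)))))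
    · apply equalizer.hom_ext
      exact (liftCoc_ι I p W _).trans (Equiv.symm_apply_apply _ _)

/-- The class of a cocycle. -/
noncomputable def cocClass (p : ℕ) (W : X.Opens) :
    cocycles I p W →+ Ext.{u} (freeFun.obj W) (Coh.toAb M) p :=
  ((Ext.mk₀ (z0 I).inv).postcomp (freeFun.obj W) (add_zero p)).comp
    ((ClassChain.mapCls (abCx_exact I) (freeFun.obj W) p).comp (liftCoc I p W))

theorem cocClass_apply (p : ℕ) (W : X.Opens) (z : cocycles I p W) :
    cocClass I p W z = (ClassChain.mapCls (abCx_exact I) (freeFun.obj W) p (liftCoc I p W z)).comp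
      (Ext.mk₀ (z0 I).inv) (add_zero p) := rfl

theorem comp_z0_inv_bijective (p : ℕ) (A : AbSheaf X) :
    Function.Bijective fun x : Ext.{u} A (ClassChain.Z (abCx I) 0) p ↦
      x.comp (Ext.mk₀ (z0 I).inv) (add_zero p) := by
  refine Function.bijective_iff_has_inverse.2 ⟨fun x ↦ x.comp (Ext.mk₀ (z0 I).hom) (add_zero p),
    fun x ↦ ?_, fun x ↦ ?_⟩
  · simp
  · simp

theorem cocClass_surjective (p : ℕ) (W : X.Opens) : Function.Surjective (cocClass I p W) :=
  (comp_z0_inv_bijective I p _).2.comp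
    ((ClassChain.mapCls_surjective (abCx_exact I) (abCx_acyclic I W) p).comp (liftCoc_bijective I p W).2)

theorem cocClass_eq_zero_iff (p : ℕ) (W : X.Opens) (z : cocycles I p W) :
    cocClass I p W z = 0 ↔ Cocyc.Bdy I.cocomplex p z.1 := by
  rw [cocClass_apply]
  refine ((comp_z0_inv_bijective I p _).1.eq_iff' (Ext.zero_comp ..)).trans ?_
  obtain _ | q := p
  · rw [ClassChain.mapCls_zero, Ext.mk₀_eq_zero_iff, ← map_zero (liftCoc I 0 W),
      (liftCoc_bijective I 0 W).1.eq_iff, Cocyc.bdy_zero_iff]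
    exact Subtype.ext_iff
  rw [ClassChain.mapCls_eq_zero_iff (abCx_exact I) (abCx_acyclic I W)]
  constructor
  · rintro ⟨ψ, hψ⟩
    refine ⟨sectionsEquiv W (Coh.toAb (I.cocomplex.X q)) ψ, ?_⟩
    have h := congrArg (fun t ↦ sectionsEquiv W (Coh.toAb (I.cocomplex.X (q + 1))) (t ≫ kernel.ι _)) hψ
    simp only [Category.assoc, kernel.lift_ι, liftCoc_ι, Equiv.apply_symm_apply] at h
    rw [sectionsEquiv_comp] at h
    exact h
  · rintro ⟨(w : Γ(I.cocomplex.X q, W)), hw⟩
    refine ⟨(sectionsEquiv W (Coh.toAb (I.cocomplex.X q))).symm w, ?_⟩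
    apply equalizer.hom_ext
    rw [Category.assoc, kernel.lift_ι, liftCoc_ι]
    apply (sectionsEquiv W (Coh.toAb (I.cocomplex.X (q + 1)))).injective
    rw [sectionsEquiv_comp]
    erw [Equiv.apply_symm_apply, Equiv.apply_symm_apply]
    exact hw

theorem cocClass_rs (p : ℕ) {V W : X.Opens} (h : W ≤ V) (z : cocycles I p V) :
    cocClass I p W ⟨Cocyc.rs h z.1, Cocyc.Coc.rs z.2 h⟩ = res _ p h (cocClass I p V z) := by
  have e : liftCoc I p W ⟨Cocyc.rs h z.1, Cocyc.Coc.rs z.2 h⟩ =
      freeFun.map (homOfLE h) ≫ liftCoc I p V z := by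
    apply equalizer.hom_ext
    rw [liftCoc_ι, Category.assoc, liftCoc_ι]
    apply (sectionsEquiv W (Coh.toAb (I.cocomplex.X p))).injective
    rw [sectionsEquiv_map, Equiv.apply_symm_apply, Equiv.apply_symm_apply]
    rfl
  rw [cocClass_apply, e, ClassChain.mapCls_precomp, cocClass_apply, res_eq_comp]
  exact Ext.comp_assoc _ _ _ _ _ (by omega)

/-- A global function as an endomorphism of the complex. -/
noncomputable def smulCx (r : Coh.Γtop X) : abCx I ⟶ abCx I where
  f n := Coh.smulAb (I.cocomplex.X n) r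
  comm' i j _ := smulAb_naturality (I.cocomplex.d i j) r

theorem cocClass_smul (p : ℕ) (W : X.Opens) (r : Γ(X, ⊤)) (z : cocycles I p W)
    (h : X.presheaf.map (homOfLE (le_top : W ≤ ⊤)).op r • z.1 ∈ cocycles I p W) :
    cocClass I p W ⟨X.presheaf.map (homOfLE (le_top : W ≤ ⊤)).op r • z.1, h⟩ =
      (cocClass I p W z).comp (Ext.mk₀ (Coh.smulAb M r)) (add_zero p) := by
  have e : liftCoc I p W ⟨X.presheaf.map (homOfLE (le_top : W ≤ ⊤)).op r • z.1, h⟩ =
      liftCoc I p W z ≫ ClassChain.zMap (smulCx I r) p := by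
    apply equalizer.hom_ext
    rw [liftCoc_ι, Category.assoc, kernel.lift_ι, ← Category.assoc, liftCoc_ι]
    apply (sectionsEquiv W (Coh.toAb (I.cocomplex.X p))).injective
    rw [sectionsEquiv_comp, Equiv.apply_symm_apply]
    erw [Equiv.apply_symm_apply]
    rfl
  have e0 : ClassChain.zMap (smulCx I r) 0 ≫ (z0 I).inv = (z0 I).inv ≫ Coh.smulAb M r := by
    rw [Iso.comp_inv_eq, Category.assoc, Iso.eq_inv_comp]
    apply equalizer.hom_ext
    rw [Category.assoc, Category.assoc, kernel.lift_ι, ← Category.assoc, z0_hom_ι]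
    exact (smulAb_naturality (I.ι) r).symm
  rw [cocClass_apply, e, ClassChain.mapCls_zMap, cocClass_apply,
    Ext.comp_assoc_of_third_deg_zero, Ext.mk₀_comp_mk₀, e0, ← Ext.mk₀_comp_mk₀,
    Ext.comp_assoc_of_third_deg_zero]

/-- An injective resolution has the properties used for localisation. -/
theorem resolves [M.IsQuasicoherent] : Cocyc.Resolves I.cocomplex M (I.ι) where
  flasque := I.flasque
  injective W := by
    have : Mono I.ι := mono_of_isLimit_fork I.isKernel
    exact app_injective_of_mono _ W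
  coc_iff {W} z := by
    constructor
    · intro hz
      refine ⟨sectionsEquiv W (Coh.toAb M) (liftCoc I 0 W ⟨z, hz⟩ ≫ (z0 I).inv), ?_⟩
      refine (sectionsEquiv_comp (G' := Coh.toAb (I.cocomplex.X 0)) _
        ((QCoh.toAbFun X).map (I.ι))).symm.trans ?_
      rw [← z0_hom_ι, Category.assoc, Iso.inv_hom_id_assoc, liftCoc_ι, Equiv.apply_symm_apply]
    · rintro ⟨m, rfl⟩
      change (I.cocomplex.d 0 1).app W ((I.ι).app W m) = 0
      rw [← ConcreteCategory.comp_apply, ← Scheme.Modules.Hom.comp_app,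
        I.ι_d]
      rfl
  exact {W} hW q z hz := (cocClass_eq_zero_iff I (q + 1) W ⟨z, hz⟩).1
    (@Subsingleton.elim _ (subsingleton_ext_freeFun_of_isAffineOpen hW M q) _ _)

end GrothLib.Cohom
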