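import Groth.Agent.Lib.Cohom.DimShift
import Groth.Agent.Lib.Cohom.Exact
import Groth.Agent.Lib.SheafCoh.Top
import Mathlib.Topology.Sheaves.Functors

/-!
# Cohomology of a direct image when higher direct images vanish

If the cohomology of `F` vanishes in positive degrees on the preimages of a basis of opens, then
`H^n(V, f_* F) = H^n(f⁻¹ V, F)` naturally in `F`.
-/

universe u

open CategoryTheory CategoryTheory.Limits Opposite TopologicalSpace Abelian

namespace GrothLib.Cohom

variable {X Y : TopCat.{u}} (f : X ⟶ Y)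

/-- Direct image of abelian sheaves. -/
noncomputable abbrev pushFun : AbSheaf X ⥤ AbSheaf Y :=
  TopCat.Sheaf.pushforward AddCommGrpCat.{u} f

/-- Cohomology of positive degree vanishes on the preimages of the members of `B`. -/
def AcyclicOn (B : Set (Opens Y)) (F : AbSheaf X) : Prop :=
  ∀ W ∈ B, ∀ n, Subsingleton (Ext.{u} (freeFun.obj ((Opens.map f).obj W)) F (n + 1))

theorem acyclicOn_of_injective (B : Set (Opens Y)) (I : AbSheaf X) (hI : Injective I) :
    AcyclicOn f B I :=
  fun _ _ _ ↦ @Ext.subsingleton_of_injective _ _ _ _ _ _ hI _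

theorem subsingleton_ext_pushFun_of_injective (I : AbSheaf X) (hI : Injective I) (V : Opens Y)
    (n : ℕ) : Subsingleton (Ext.{u} (freeFun.obj V) ((pushFun f).obj I) (n + 1)) := by
  have : TopCat.Sheaf.IsFlasque I := SheafCoh.isFlasque_of_injective I
  have : TopCat.Sheaf.IsFlasque ((pushFun f).obj I) :=
    TopCat.Presheaf.IsFlasque.pushforward_isFlasque I.obj f
  exact SheafCoh.flasque_HU_subsingleton ((pushFun f).obj I) n V

theorem acyclicOn_X₃ {B : Set (Opens Y)} {S : ShortComplex (AbSheaf X)} (hS : S.ShortExact)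
    (h₁ : AcyclicOn f B S.X₁) (h₂ : AcyclicOn f B S.X₂) : AcyclicOn f B S.X₃ := by
  intro W hW n
  refine subsingleton_of_forall_eq 0 fun x ↦ ?_
  have := h₁ W hW (n + 1)
  have := h₂ W hW n
  obtain ⟨y, rfl⟩ := Ext.covariant_sequence_exact₃ _ hS x rfl (Subsingleton.elim _ _)
  rw [Subsingleton.elim y 0, Ext.zero_comp]

theorem pushFun_map_shortExact {B : Set (Opens Y)} (hB : Opens.IsBasis B)
    {S : ShortComplex (AbSheaf X)} (hS : S.ShortExact) (h₁ : AcyclicOn f B S.X₁) :
    (S.map (pushFun f)).ShortExact := by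
  have := hS.mono_f
  have : PreservesFiniteLimits (pushFun f) := by
    have : PreservesLimitsOfSize.{0, 0} (pushFun f) :=
      (TopCat.Sheaf.pullbackPushforwardAdjunction AddCommGrpCat.{u} f).rightAdjoint_preservesLimits
    exact PreservesLimitsOfSize.preservesFiniteLimits.{0, 0} _
  refine { exact := ?_, mono_f := ?_, epi_g := ?_ }
  · exact ShortComplex.exact_of_f_is_kernel _
      (isLimitForkMapOfIsLimit' (pushFun f) S.zero hS.fIsKernel)
  · exact inferInstanceAs (Mono ((pushFun f).map S.f))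
  · refine (TopCat.Sheaf.isLocallySurjective_iff_epi (X := Y) _).1 ?_
    refine (TopCat.Presheaf.isLocallySurjective_iff _).2 fun U t p hp ↦ ?_
    obtain ⟨W, hW, hpW, hWU⟩ := Opens.isBasis_iff_nbhd.1 hB hp
    obtain ⟨s, hs⟩ := sections_surjective hS ((Opens.map f).obj W) (h₁ W hW 0)
      (S.X₃.obj.map ((Opens.map f).map (homOfLE hWU)).op t)
    exact ⟨W, hWU, ⟨s, hs⟩, hpW⟩

/-- The natural comparison `H^n(f⁻¹ V, F) = H^n(V, f_* F)` for sheaves acyclic on preimages. -/
theorem nonempty_comparison_pushFun {B : Set (Opens Y)} (hB : Opens.IsBasis B) (V : Opens Y)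
    (n : ℕ) :
    Nonempty (DimShift.Comparison.{u} (pushFun f) (freeFun.obj ((Opens.map f).obj V))
      (freeFun.obj V) (AcyclicOn f B) n) := by
  refine DimShift.nonempty_comparison (pushFun f) _ _ _ (acyclicOn_of_injective f B)
    (fun S hS hI h₁ ↦ ⟨acyclicOn_X₃ f hS h₁ (acyclicOn_of_injective f B _ hI),
      pushFun_map_shortExact f hB hS h₁⟩)
    (fun I hI n ↦ subsingleton_ext_pushFun_of_injective f I hI V n)
    (fun F ↦ (sectionsAddEquiv _ F).trans (sectionsAddEquiv V ((pushFun f).obj F)).symm)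
    (fun {F F'} φ a ↦ ?_) n
  apply (sectionsAddEquiv V ((pushFun f).obj F')).injective
  refine ((sectionsAddEquiv V ((pushFun f).obj F')).apply_symm_apply _).trans ?_
  refine (sectionsEquiv_comp a φ).trans (Eq.trans ?_ (sectionsEquiv_comp _ ((pushFun f).map φ)).symm)
  exact congrArg _ ((sectionsEquiv V ((pushFun f).obj F)).apply_symm_apply _).symm

end GrothLib.Cohom
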